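/-
Groups all of whose element centralisers are TI-subsets: first properties and the soluble case.
-/
import Mathlib
import Cfsg.Prelude.Def_OddOrderLocal
import Cfsg.Prelude.Def_LieExceptional
import Cfsg.Prelude.Def_Solvable
import Cfsg.Agent.S1476
import Cfsg.Agent.Lib.PLocal.Cores

set_option autoImplicit false

namespace Cfsg.Agent.TICentralizer

open Subgroup (centralizer normalizer)

variable {G : Type*} [Group G]

/-- All centralisers of elements are TI-subsets. -/
def TIProp (G : Type*) [Group G] : Prop :=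
  ∀ x : G, Cfsg.IsTISubset (Subgroup.centralizer ({x} : Set G) : Set G)

theorem mem_cent {x y : G} : y ∈ centralizer ({x} : Set G) ↔ y * x = x * y :=
  Subgroup.mem_centralizer_singleton_iff

/-- An element moving a nontrivial element of a centraliser into it normalises it. -/
theorem TIProp.mem_normalizer (h : TIProp G) {x y g : G} (hy : y ∈ centralizer ({x} : Set G))
    (hy1 : y ≠ 1) (hg : g * y * g⁻¹ ∈ centralizer ({x} : Set G)) :
    g ∈ normalizer (centralizer ({x} : Set G) : Set G) :=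
  by_contra fun hn => hy1 (h x g hn y hy hg)

theorem TIProp.centralizer_le (h : TIProp G) {x y : G} (hy : y ∈ centralizer ({x} : Set G))
    (hy1 : y ≠ 1) : centralizer ({y} : Set G) ≤ normalizer (centralizer ({x} : Set G) : Set G) :=
  fun g hg => h.mem_normalizer hy hy1 (by
    rw [mem_cent.1 hg, mul_inv_cancel_right]; exact hy)

theorem TIProp.subgroup (h : TIProp G) (H : Subgroup G) : TIProp H := by
  intro x g hg y hy hgy
  refine Subtype.ext (h (x : G) (g : G) (fun hn => hg ?_) (y : G) ?_ ?_)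
  · refine Subgroup.mem_normalizer_iff.2 fun k => ?_
    have hk := Subgroup.mem_normalizer_iff.1 hn (k : G)
    rw [mem_cent, mem_cent] at hk
    rw [mem_cent, mem_cent, Subtype.ext_iff, Subtype.ext_iff]
    simpa using hk
  · rw [SetLike.mem_coe, mem_cent] at hy
    rw [SetLike.mem_coe, mem_cent]
    simpa using congrArg Subtype.val hy
  · rw [SetLike.mem_coe, mem_cent] at hgy
    rw [SetLike.mem_coe, mem_cent]
    simpa using congrArg Subtype.val hgy

/-- A group with TI centralisers and a nontrivial centre is nilpotent. -/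
theorem TIProp.nilpotent_of_center [Finite G] (h : TIProp G) {z : G} (hz1 : z ≠ 1)
    (hz : ∀ g : G, g * z = z * g) : Group.IsNilpotent G := by
  have hnorm : ∀ x g : G, g ∈ normalizer (centralizer ({x} : Set G) : Set G) := fun x g =>
    h.mem_normalizer (mem_cent.2 (hz x).symm) hz1 (by
      rw [hz g, mul_inv_cancel_right]; exact mem_cent.2 (hz x).symm)
  have hcomm : ∀ x a b : G, Commute (a * x * a⁻¹) (b * x * b⁻¹) := by
    intro x a b
    have hm := (Subgroup.mem_normalizer_iff.1 (hnorm x (a⁻¹ * b)) x).1 (mem_cent.2 rfl)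
    have := mem_cent.1 hm
    show a * x * a⁻¹ * (b * x * b⁻¹) = b * x * b⁻¹ * (a * x * a⁻¹)
    calc a * x * a⁻¹ * (b * x * b⁻¹) = a * (x * (a⁻¹ * b * x * (a⁻¹ * b)⁻¹)) * a⁻¹ := by group
      _ = a * (a⁻¹ * b * x * (a⁻¹ * b)⁻¹ * x) * a⁻¹ := by rw [this]
      _ = _ := by group
  refine ((Group.isNilpotent_of_finite_tfae (G := G)).out 0 3).2 ?_
  intro p hp P
  have := hp
  -- every element of `P` lies in every Sylow `p`-subgroup
  have key : ∀ x ∈ (P : Subgroup G), ∀ g : G, g * x * g⁻¹ ∈ (P : Subgroup G) := by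
    intro x hx g
    set K := Subgroup.normalClosure ({x} : Set G) with hK
    have hKc : ∀ a ∈ K, ∀ b ∈ K, a * b = b * a := by
      have hle : K ≤ Subgroup.centralizer (Group.conjugatesOfSet ({x} : Set G)) := by
        refine (Subgroup.closure_le _).2 fun a ha => ?_
        obtain ⟨x', hx', hxa⟩ := Group.mem_conjugatesOfSet_iff.1 ha
        rw [Set.mem_singleton_iff] at hx'
        subst hx'
        obtain ⟨u, rfl⟩ := isConj_iff.1 hxa
        refine Subgroup.mem_centralizer_iff.2 fun b hb => ?_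
        obtain ⟨x'', hx'', hxb⟩ := Group.mem_conjugatesOfSet_iff.1 hb
        rw [Set.mem_singleton_iff] at hx''
        subst hx''
        obtain ⟨v, rfl⟩ := isConj_iff.1 hxb
        exact (hcomm _ v u).eq
      intro a ha b hb
      have hb' : b ∈ Subgroup.centralizer (K : Set G) := by
        refine (show K ≤ Subgroup.centralizer (K : Set G) from ?_) hb
        refine (Subgroup.closure_le _).2 fun c hc => ?_
        refine Subgroup.mem_centralizer_iff.2 fun d hd => ?_
        exact (Subgroup.mem_centralizer_iff.1 (hle hd) c hc).symm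
      exact Subgroup.mem_centralizer_iff.1 hb' a ha
    have hKp : IsPGroup p K := by
      intro a
      obtain ⟨k, hk⟩ := P.2 ⟨x, hx⟩
      have hxk : x ^ p ^ k = 1 := congrArg Subtype.val hk
      refine ⟨k, Subtype.ext ?_⟩
      rw [SubgroupClass.coe_pow, OneMemClass.coe_one]
      refine Subgroup.closure_induction (p := fun a _ => a ^ p ^ k = 1) ?_ (one_pow _) ?_ ?_ a.2
      · intro c hc
        obtain ⟨x', hx', hxc⟩ := Group.mem_conjugatesOfSet_iff.1 hc
        rw [Set.mem_singleton_iff] at hx'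
        subst hx'
        obtain ⟨u, rfl⟩ := isConj_iff.1 hxc
        rw [conj_pow, hxk, mul_one, mul_inv_cancel]
      · intro c d hc hd hc1 hd1
        rw [Commute.mul_pow (hKc c hc d hd), hc1, hd1, one_mul]
      · intro c _ hc1
        rw [inv_pow, hc1, inv_one]
    obtain ⟨Q, hQ⟩ := hKp.exists_le_sylow
    obtain ⟨c, rfl⟩ := MulAction.exists_smul_eq G Q P
    rw [Sylow.coe_subgroup_smul]
    refine Subgroup.mem_pointwise_smul_iff_inv_smul_mem.2 (hQ ?_)
    have hgx : g * x * g⁻¹ ∈ K :=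
      (inferInstance : K.Normal).conj_mem _ (Subgroup.subset_normalClosure rfl) g
    rw [← map_inv, MulAut.smul_def, MulAut.conj_apply]
    exact (inferInstance : K.Normal).conj_mem _ hgx c⁻¹
  exact ⟨key⟩

theorem TIProp.isCNGroup [Finite G] (h : TIProp G) : Cfsg.IsCNGroup G := fun g hg =>
  (h.subgroup _).nilpotent_of_center (z := ⟨g, mem_cent.2 rfl⟩)
    (fun e => hg (congrArg Subtype.val e)) fun k => Subtype.ext (mem_cent.1 k.2)

/-- In a group with TI centralisers there is no three-step configuration. -/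
theorem TIProp.not_threeStep [Finite G] (h : TIProp G) (p : ℕ) (hp : p.Prime) :
    ¬ Cfsg.IsThreeStepGroup p G := by
  rintro ⟨hU, A, hA1, -, -, hAp, hUA, hne, ⟨n, hn⟩, hfix, hcomm⟩
  have : Fact p.Prime := ⟨hp⟩
  set U := Cfsg.pCore p G
  set W := U ⊔ A
  obtain ⟨S, hUS⟩ := (show IsPGroup p U from PLocal.Cores.isPGroup_pCore).exists_le_sylow
  have hUn : U.Normal := inferInstance
  -- elements of `W` of `p`-power order lie in `U`
  have hpW : ∀ w ∈ W, (∃ k : ℕ, w ^ p ^ k = 1) → w ∈ U := by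
    rintro w hw ⟨k, hk⟩
    obtain ⟨u, hu, a, ha, rfl⟩ := Subgroup.mem_sup_of_normal_left.1 hw
    have h1 : a ^ p ^ k ∈ U := by
      rw [← QuotientGroup.eq_one_iff, QuotientGroup.mk_pow]
      have : ((u * a : G) : G ⧸ U) ^ p ^ k = 1 := by rw [← QuotientGroup.mk_pow, hk]; rfl
      rwa [QuotientGroup.mk_mul, (QuotientGroup.eq_one_iff u).2 hu, one_mul] at this
    have h2 : (a : G ⧸ U) = 1 := by
      have h3 : orderOf (a : G ⧸ U) ∣ p ^ k := orderOf_dvd_of_pow_eq_one
        (by rw [← QuotientGroup.mk_pow]; exact (QuotientGroup.eq_one_iff _).2 h1)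
      have h4 : orderOf (a : G ⧸ U) ∣ Nat.card A :=
        (orderOf_map_dvd (QuotientGroup.mk' U) a).trans (A.orderOf_dvd_natCard ha)
      exact orderOf_eq_one_iff.1 (Nat.eq_one_of_dvd_coprimes (hAp.pow_right k) h4 h3)
    exact mul_mem hu ((QuotientGroup.eq_one_iff a).1 h2)
  have hSp : ∀ s ∈ (S : Subgroup G), ∃ k : ℕ, s ^ p ^ k = 1 := fun s hs => by
    obtain ⟨k, hk⟩ := S.2 ⟨s, hs⟩
    exact ⟨k, congrArg Subtype.val hk⟩
  obtain ⟨a, ha, ha1⟩ := A.ne_bot_iff_exists_ne_one.1 hA1 |> fun ⟨a, ha⟩ =>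
    (⟨a.1, a.2, fun e => ha (Subtype.ext e)⟩ : ∃ a, a ∈ A ∧ a ≠ 1)
  have : Nontrivial (S : Subgroup G) :=
    (Subgroup.nontrivial_iff_ne_bot _).2 fun e => hU (le_bot_iff.1 (e ▸ hUS))
  have := S.2.center_nontrivial
  obtain ⟨⟨⟨z, hzS⟩, hzc⟩, hz1'⟩ := exists_ne (1 : Subgroup.center (S : Subgroup G))
  have hz1 : z ≠ 1 := fun e => hz1' (Subtype.ext (Subtype.ext e))
  have hzS' : ∀ s ∈ (S : Subgroup G), s * z = z * s := fun s hs =>
    congrArg Subtype.val (Subgroup.mem_center_iff.1 hzc ⟨s, hs⟩)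
  have hzU : ∀ u ∈ U, u * z = z * u := fun u hu => hzS' u (hUS hu)
  -- `z ∈ W`
  have hzW : z ∈ W := by
    by_contra hzW
    refine hcomm z hzW a ha ha1 ?_
    have hb : z * a * z⁻¹ * a⁻¹ ∈ W :=
      mul_mem (hUA.conj_mem _ (Subgroup.mem_sup_right ha) z) (inv_mem (Subgroup.mem_sup_right ha))
    obtain ⟨u', hu', a', ha', he⟩ := Subgroup.mem_sup_of_normal_left.1 hb
    have hc : ∀ u ∈ U, (z * a * z⁻¹ * a⁻¹) * u = u * (z * a * z⁻¹ * a⁻¹) := by
      intro u hu
      have h1 : a⁻¹ * u * a ∈ U := by simpa using hUn.conj_mem u hu a⁻¹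
      have h2 := hzU _ h1
      calc z * a * z⁻¹ * a⁻¹ * u = z * a * z⁻¹ * (a⁻¹ * u * a) * a⁻¹ := by group
        _ = z * a * z⁻¹ * ((a⁻¹ * u * a) * z) * (z⁻¹ * a⁻¹) := by group
        _ = z * a * z⁻¹ * (z * (a⁻¹ * u * a)) * (z⁻¹ * a⁻¹) := by rw [h2]
        _ = z * u * z⁻¹ * (z * a * z⁻¹ * a⁻¹) := by group
        _ = u * z * z⁻¹ * (z * a * z⁻¹ * a⁻¹) := by rw [hzU u hu]
        _ = _ := by group
    rw [← he]
    by_cases ha'1 : a' = 1
    · rw [ha'1, mul_one]; exact hu'
    · exfalso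
      refine hU ((Subgroup.eq_bot_iff_forall _).2 fun u hu => ?_)
      have hu'1 : u' = 1 := by
        have := hc u' hu'
        rw [← he, mul_assoc, mul_left_cancel_iff] at this
        exact (Subgroup.eq_bot_iff_forall _).1 (hfix a' ha' ha'1) u'
          ⟨hu', mem_cent.2 this.symm⟩
      have := hc u hu
      rw [← he, hu'1, one_mul] at this
      exact (Subgroup.eq_bot_iff_forall _).1 (hfix a' ha' ha'1) u ⟨hu, mem_cent.2 this.symm⟩
  have hzmem : z ∈ U := hpW z hzW (hSp z hzS)
  set C := centralizer ({z} : Set G)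
  have hCW : ∀ g ∈ C, g ∈ W → g ∈ U := by
    intro g hg hgW
    obtain ⟨u, hu, b, hb, rfl⟩ := Subgroup.mem_sup_of_normal_left.1 hgW
    by_cases hb1 : b = 1
    · rw [hb1, mul_one]; exact hu
    · have hbz : b * z = z * b := by
        have := mem_cent.1 hg
        rw [mul_assoc] at this
        calc b * z = u⁻¹ * (u * (b * z)) := by group
          _ = u⁻¹ * (z * (u * b)) := by rw [this]
          _ = u⁻¹ * (z * u) * b := by group
          _ = z * b := by rw [← hzU u hu]; group
      exact absurd ((Subgroup.eq_bot_iff_forall _).1 (hfix b hb hb1) z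
        ⟨hzmem, mem_cent.2 hbz.symm⟩) hz1
  have hCp : IsPGroup p C := by
    intro g
    have hW : W.Normal := hUA
    have h1 : (g : G) ^ p ^ n ∈ W := by rw [← hn]; exact W.pow_index_mem _
    obtain ⟨k, hk⟩ := hSp _ (hUS (hCW _ (pow_mem g.2 _) h1))
    exact ⟨n + k, Subtype.ext (by
      rw [SubgroupClass.coe_pow, pow_add, pow_mul, hk, OneMemClass.coe_one])⟩
  have hCS : C = (S : Subgroup G) := S.3 hCp fun s hs => mem_cent.2 (hzS' s hs)
  have haN : a ∈ normalizer (C : Set G) :=
    h.mem_normalizer (mem_cent.2 rfl) hz1 (show _ ∈ C by rw [hCS]; exact hUS (hUn.conj_mem z hzmem a))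
  rw [hCS] at haN
  obtain ⟨s, hs, hsW⟩ : ∃ s ∈ (S : Subgroup G), s ∉ W := by
    by_contra hall
    push Not at hall
    refine hne (Subgroup.index_eq_one.1 (Nat.eq_one_of_dvd_coprimes
      ((hp.coprime_iff_not_dvd.2 S.not_dvd_index).pow_left n) (hn ▸ dvd_refl _)
      (Subgroup.index_dvd_of_le hall)))
  refine hcomm s hsW a ha ha1 (hpW _ ?_ (hSp _ ?_))
  · exact mul_mem (hUA.conj_mem _ (Subgroup.mem_sup_right ha) s) (inv_mem (Subgroup.mem_sup_right ha))
  · rw [show s * a * s⁻¹ * a⁻¹ = s * (a * s⁻¹ * a⁻¹) by group]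
    exact mul_mem hs ((Subgroup.mem_normalizer_iff.1 haN _).1 (inv_mem hs))

/-- The quaternion group of order at least 16 does not occur. -/
theorem TIProp.no_big_quaternion (h : TIProp G) (Q : Subgroup G) (m : ℕ) [NeZero m] (hm : 3 ≤ m)
    (e : Q ≃* QuaternionGroup m) : False := by
  have : Fact (2 < 2 * m) := ⟨by omega⟩
  set f : QuaternionGroup m →* G := Q.subtype.comp e.symm.toMonoidHom with hf
  have hinj : Function.Injective f := Q.subtype_injective.comp e.symm.injective
  set x := f (QuaternionGroup.xa 0)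
  set w := f (QuaternionGroup.a 1)
  have hz : f (QuaternionGroup.a (m : ZMod (2 * m))) ≠ 1 := by
    rw [← map_one f]
    intro e'
    have h1 := hinj e'
    rw [QuaternionGroup.one_def, QuaternionGroup.a.injEq, ZMod.natCast_eq_zero_iff] at h1
    have := Nat.le_of_dvd (by omega) h1
    omega
  have hzx : f (QuaternionGroup.a (m : ZMod (2 * m))) = x * x := by
    rw [← map_mul, QuaternionGroup.xa_mul_xa]; simp
  have hmem : f (QuaternionGroup.a (m : ZMod (2 * m))) ∈ centralizer ({x} : Set G) :=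
    mem_cent.2 (by rw [hzx, mul_assoc])
  have hw : w ∈ normalizer (centralizer ({x} : Set G) : Set G) := by
    refine h.centralizer_le hmem hz (mem_cent.2 ?_)
    rw [← map_mul, ← map_mul, QuaternionGroup.a_mul_a, QuaternionGroup.a_mul_a, add_comm]
  have h2 := mem_cent.1 ((Subgroup.mem_normalizer_iff.1 hw x).1 (mem_cent.2 rfl))
  rw [← map_inv, ← map_mul, ← map_mul, ← map_mul, ← map_mul] at h2
  have h3 := hinj h2
  rw [show (QuaternionGroup.a (1 : ZMod (2 * m)))⁻¹ = QuaternionGroup.a (-1) from rfl,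
    QuaternionGroup.a_mul_xa, QuaternionGroup.xa_mul_a, QuaternionGroup.xa_mul_xa,
    QuaternionGroup.xa_mul_xa, QuaternionGroup.a.injEq] at h3
  have h4 : ((4 : ℕ) : ZMod (2 * m)) = 0 := by linear_combination h3
  rw [ZMod.natCast_eq_zero_iff] at h4
  have := Nat.le_of_dvd (by omega) h4
  omega

/-- The soluble case. -/
theorem TIProp.solvable_case [Finite G] (h : TIProp G) [Group.IsSolvable G] :
    Group.IsNilpotent G ∨
    (∃ H : Subgroup G, Cfsg.IsFrobeniusComplement H ∧
      (IsCyclic H ∨ ∃ m : ℕ, Odd m ∧ Nonempty (H ≃* Multiplicative (ZMod m) × QuaternionGroup 2))) := by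
  rcases Cfsg.Agent.S1476.result h.isCNGroup with hn | ⟨K, E, -, -, hE, hcase⟩ | ⟨p, hp, h3⟩
  · exact Or.inl hn
  swap
  · exact absurd h3 (h.not_threeStep p hp)
  refine Or.inr ⟨E, hE, ?_⟩
  rcases hcase with hc | ⟨C, Q, hCQ, hcomm, hC, hodd, n, ⟨e⟩⟩
  · exact Or.inl hc
  have hcard : Nat.card Q = 4 * 2 ^ n := by
    rw [Nat.card_congr e.toEquiv, Nat.card_eq_fintype_card, QuaternionGroup.card]
  have hco : (Nat.card C).Coprime (Nat.card Q) := by
    rw [hcard, show 4 * 2 ^ n = 2 ^ (n + 2) by ring]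
    exact (Nat.coprime_two_right.2 hodd).pow_right _
  have hdisj : Disjoint C Q := disjoint_iff.2 (Subgroup.inf_eq_bot_of_coprime hco)
  have hcm : ∀ (a : C) (b : Q), Commute (C.subtype a) (Q.subtype b) := fun a b =>
    hcomm a a.2 b b.2
  let f : C × Q →* G := C.subtype.noncommCoprod Q.subtype hcm
  have hfinj : Function.Injective f :=
    (MonoidHom.noncommCoprod_injective _ _ _).2 ⟨C.subtype_injective, Q.subtype_injective, by
      simpa using hdisj⟩
  have hrange : f.range = E := by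
    simp only [f]
    rw [MonoidHom.noncommCoprod_range, Subgroup.range_subtype, Subgroup.range_subtype, hCQ]
  let φ : C × Q ≃* E := (MonoidHom.ofInjective hfinj).trans (MulEquiv.subgroupCongr hrange)
  rcases n with _ | _ | n
  · left
    have : IsCyclic Q := by
      refine e.isCyclic.2 (isCyclic_of_orderOf_eq_card (QuaternionGroup.xa 0) ?_)
      rw [QuaternionGroup.orderOf_xa, Nat.card_eq_fintype_card, QuaternionGroup.card]
      norm_num
    have : IsCyclic (C × Q) := Group.isCyclic_prod_iff.2 ⟨hC, this, hco⟩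
    exact φ.isCyclic.1 this
  · right
    exact ⟨Nat.card C, hodd, ⟨φ.symm.trans (MulEquiv.prodCongr (zmodCyclicMulEquiv hC).symm e)⟩⟩
  · have hle := Nat.pow_le_pow_right (show 2 > 0 by omega) (show 2 ≤ n + 1 + 1 by omega)
    exact (h.no_big_quaternion Q (2 ^ (n + 1 + 1)) (by norm_num at hle; omega) e).elim

end Cfsg.Agent.TICentralizer
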