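/-
An elementary covering lemma for an abelian group of exponent four with commuting endomorphisms
which are simply transitive on its squares.
-/
import Mathlib

set_option autoImplicit false

namespace Cfsg.Agent.TICentralizer

variable {X : Type*} [CommGroup X] {ι : Type*}

theorem mul_self_map (k : X →* X) (x : X) : k x * k x = k (x * x) := (map_mul k x x).symm

/-- If an endomorphism commuting with all `f i` has square zero on `γ * γ` it kills `γ * γ`. -/
theorem cover_kill (f : ι → X →* X) (γ : X) (hexp : ∀ x : X, x * x * (x * x) = 1)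
    (hinj : ∀ i, f i (γ * γ) ≠ 1 → ∀ x, f i x = 1 → x = 1)
    (hgen : ∀ z : X, z * z = 1 → ∃ i, z = f i (γ * γ)) (k : X →* X)
    (hk : ∀ i x, k (f i x) = f i (k x)) (h0 : k (k (γ * γ)) = 1) : k (γ * γ) = 1 := by
  obtain ⟨i, hi⟩ := hgen (k (γ * γ)) (by rw [mul_self_map, hexp, map_one])
  by_contra hne
  refine hne (hinj i (fun e => hne (hi.trans e)) _ ?_)
  rw [← hk, ← hi, h0]

/-- Two commuting endomorphisms with equal squares on `γ * γ` agree there. -/
theorem cover_eq (f : ι → X →* X) (γ : X) (hexp : ∀ x : X, x * x * (x * x) = 1)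
    (hinj : ∀ i, f i (γ * γ) ≠ 1 → ∀ x, f i x = 1 → x = 1)
    (hgen : ∀ z : X, z * z = 1 → ∃ i, z = f i (γ * γ)) (a b : X →* X)
    (ha : ∀ i x, a (f i x) = f i (a x)) (hb : ∀ i x, b (f i x) = f i (b x))
    (hab : ∀ x, a (b x) = b (a x)) (h : a (a (γ * γ)) = b (b (γ * γ))) : a (γ * γ) = b (γ * γ) := by
  have h2 : ∀ (u v : X →* X), u (v (γ * γ)) * u (v (γ * γ)) = 1 := fun u v => by
    rw [mul_self_map, mul_self_map, hexp, map_one, map_one]
  have h1 := cover_kill f γ hexp hinj hgen (a * b⁻¹)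
    (fun i x => by simp only [MonoidHom.mul_apply, MonoidHom.inv_apply, map_mul, map_inv, ha, hb]) ?_
  · rwa [MonoidHom.mul_apply, MonoidHom.inv_apply, mul_inv_eq_one] at h1
  · generalize γ * γ = w at h h2 ⊢
    simp only [MonoidHom.mul_apply, MonoidHom.inv_apply, map_mul, map_inv, h, hab, mul_inv_rev, inv_inv]
    rw [mul_mul_mul_comm, h2 b b, one_mul, ← mul_inv, h2 b a, inv_one]

/-- The differences of `f i (f i γ)` are distinct. -/
theorem cover_inj (f : ι → X →* X) (γ : X) (hcomm : ∀ i j x, f i (f j x) = f j (f i x))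
    (hexp : ∀ x : X, x * x * (x * x) = 1)
    (hfree : ∀ i j, f i (γ * γ) = f j (γ * γ) → i = j)
    (hinj : ∀ i, f i (γ * γ) ≠ 1 → ∀ x, f i x = 1 → x = 1)
    (hgen : ∀ z : X, z * z = 1 → ∃ i, z = f i (γ * γ)) {i j k l : ι} (hij : i ≠ j) (hkl : k ≠ l)
    (h : f i (f i γ) * (f j (f j γ))⁻¹ = f k (f k γ) * (f l (f l γ))⁻¹) : i = k ∧ j = l := by
  have sq0 : ∀ x : X, (x * x)⁻¹ = x * x := fun x => inv_eq_of_mul_eq_one_right (hexp x)
  set g : X →* X := f i * (f j)⁻¹ with hg
  set k' : X →* X := f k * (f l)⁻¹ with hk'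
  have gf : ∀ a x, g (f a x) = f a (g x) := fun a x => by
    simp only [hg, MonoidHom.mul_apply, MonoidHom.inv_apply, map_mul, map_inv, hcomm i a, hcomm j a]
  have kf : ∀ a x, k' (f a x) = f a (k' x) := fun a x => by
    simp only [hk', MonoidHom.mul_apply, MonoidHom.inv_apply, map_mul, map_inv, hcomm k a, hcomm l a]
  have gk : ∀ x, g (k' x) = k' (g x) := fun x => by
    simp only [hk', MonoidHom.mul_apply, MonoidHom.inv_apply, map_mul, map_inv, gf]
  have er : f i (f i γ) * (f j (f j γ))⁻¹ = g (g γ) * (f j (g γ) * f j (g γ)) := by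
    simp only [hg, MonoidHom.mul_apply, MonoidHom.inv_apply, map_mul, map_inv, hcomm j i, mul_inv_rev,
      inv_inv]
    apply Additive.ofMul.injective
    simp only [ofMul_mul, ofMul_inv]
    abel
  have es : f k (f k γ) * (f l (f l γ))⁻¹ = k' (k' γ) * (f l (k' γ) * f l (k' γ)) := by
    simp only [hk', MonoidHom.mul_apply, MonoidHom.inv_apply, map_mul, map_inv, hcomm l k, mul_inv_rev,
      inv_inv]
    apply Additive.ofMul.injective
    simp only [ofMul_mul, ofMul_inv]
    abel
  have h₀ := h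
  rw [er, es] at h
  -- squares
  have hsq : g (g (γ * γ)) = k' (k' (γ * γ)) := by
    have h' := congrArg (fun x : X => x * x) h
    rw [mul_mul_mul_comm, hexp, mul_one, mul_mul_mul_comm (k' (k' γ)), hexp, mul_one] at h'
    simpa [map_mul] using h'
  have hd : g (γ * γ) = k' (γ * γ) := cover_eq f γ hexp hinj hgen g k' gf kf gk hsq
  set z := g γ * (k' γ)⁻¹ with hz
  have hz2 : z * z = 1 := by
    rw [hz, mul_mul_mul_comm, ← mul_inv, mul_self_map, mul_self_map, hd, mul_inv_cancel]
  have hgz : g z = k' z := by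
    obtain ⟨m, hm⟩ := hgen z hz2
    rw [hm, gf, kf, hd]
  have hgg : g (g γ) = k' (k' γ) := by
    have e1 : g γ = k' γ * z := by rw [hz, mul_comm (g γ), mul_inv_cancel_left]
    have e2 : k' γ = g γ * z := by rw [e1, mul_assoc, hz2, mul_one]
    calc g (g γ) = g (k' γ) * k' z := by rw [e1, map_mul, hgz]
      _ = k' (g γ * z) := by rw [gk, ← map_mul]
      _ = k' (k' γ) := by rw [← e2]
  rw [hgg, mul_left_cancel_iff] at h
  -- `f j` and `f l` agree
  have hg1 : g (γ * γ) ≠ 1 := fun e => by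
    rw [hg, MonoidHom.mul_apply, MonoidHom.inv_apply, mul_inv_eq_one] at e
    exact hij (hfree i j e)
  obtain ⟨m, hm⟩ := hgen (g (γ * γ)) (by rw [mul_self_map, hexp, map_one])
  have hmne : f m (γ * γ) ≠ 1 := hm ▸ hg1
  have hjl : j = l := by
    refine hfree j l ?_
    have h1 : f j (g (γ * γ)) = f l (g (γ * γ)) := by
      conv_rhs => rw [hd]
      simpa [map_mul] using h
    rw [hm, hcomm j m, hcomm l m] at h1
    exact mul_inv_eq_one.1 (hinj m hmne _ (by rw [map_mul, map_inv, h1, mul_inv_cancel]))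
  subst hjl
  refine ⟨hfree i k ?_, rfl⟩
  exact cover_eq f γ hexp hinj hgen (f i) (f k) (fun a x => hcomm i a x) (fun a x => hcomm k a x)
    (fun x => hcomm i k x) (by
      have h' := congrArg (fun x : X => x * x) (mul_right_cancel h₀)
      simpa [map_mul] using h')

/-- Every element whose square is nontrivial is such a difference. -/
theorem cover_surj [Finite X] [Finite ι] (f : ι → X →* X) (γ : X)
    (hcomm : ∀ i j x, f i (f j x) = f j (f i x))
    (hexp : ∀ x : X, x * x * (x * x) = 1)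
    (hfree : ∀ i j, f i (γ * γ) = f j (γ * γ) → i = j)
    (hinj : ∀ i, f i (γ * γ) ≠ 1 → ∀ x, f i x = 1 → x = 1)
    (hgen : ∀ z : X, z * z = 1 → ∃ i, z = f i (γ * γ)) (x : X) (hx : x * x ≠ 1) :
    ∃ i j, i ≠ j ∧ x = f i (f i γ) * (f j (f j γ))⁻¹ := by
  classical
  have := Fintype.ofFinite X
  have := Fintype.ofFinite ι
  -- the squares form the kernel of squaring
  let Z := {z : X // z * z = 1}
  let φ : ι → Z := fun i => ⟨f i (γ * γ), by rw [← map_mul, hexp, map_one]⟩
  have hφ : Function.Bijective φ := ⟨fun i j h => hfree i j (congrArg Subtype.val h), fun z => by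
    obtain ⟨i, hi⟩ := hgen z.1 z.2
    exact ⟨i, Subtype.ext hi.symm⟩⟩
  have hZ : Nat.card Z = Nat.card ι := (Nat.card_eq_of_bijective φ hφ).symm
  let sq : X →* X := powMonoidHom 2
  have hk : Nat.card sq.ker = Nat.card ι := by
    rw [← hZ]
    exact Nat.card_congr (Equiv.subtypeEquivRight fun z => by
      rw [MonoidHom.mem_ker, powMonoidHom_apply, pow_two])
  have hr : Nat.card sq.range = Nat.card ι := by
    rw [← hZ]
    refine Nat.card_congr (Equiv.subtypeEquivRight fun z => ⟨?_, fun hz => ?_⟩)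
    · rintro ⟨w, rfl⟩
      rw [powMonoidHom_apply, pow_two]
      exact hexp w
    · obtain ⟨i, rfl⟩ := hgen z hz
      exact ⟨f i γ, by rw [powMonoidHom_apply, pow_two, map_mul]⟩
  have hX : Nat.card X = Nat.card ι * Nat.card ι := by
    rw [← sq.ker.index_mul_card, Subgroup.index_ker, hr, hk]
  let P := {p : ι × ι // p.1 ≠ p.2}
  have hP : Nat.card P = Nat.card ι * Nat.card ι - Nat.card ι := by
    rw [Nat.card_eq_fintype_card, Nat.card_eq_fintype_card, Fintype.card_subtype_compl,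
      Fintype.card_prod]
    congr 1
    exact Fintype.card_congr
      ⟨fun p => p.1.1, fun i => ⟨(i, i), rfl⟩, fun p => Subtype.ext (Prod.ext rfl p.2), fun _ => rfl⟩
  let T := {x : X // x * x ≠ 1}
  have hT : Nat.card T = Nat.card ι * Nat.card ι - Nat.card ι := by
    rw [← hX, ← hZ, Nat.card_eq_fintype_card, Nat.card_eq_fintype_card (α := X),
      Nat.card_eq_fintype_card (α := Z), ← Fintype.card_subtype_compl]
  let ψ : P → T := fun p => ⟨f p.1.1 (f p.1.1 γ) * (f p.1.2 (f p.1.2 γ))⁻¹, fun e => by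
    refine p.2 (hfree _ _ (cover_eq f γ hexp hinj hgen (f p.1.1) (f p.1.2) (fun a x => hcomm _ a x)
      (fun a x => hcomm _ a x) (fun x => hcomm _ _ x) ?_))
    rw [mul_mul_mul_comm, ← mul_inv, mul_inv_eq_one] at e
    simpa [map_mul] using e⟩
  have hψ : Function.Injective ψ := by
    rintro ⟨⟨i, j⟩, hij⟩ ⟨⟨k, l⟩, hkl⟩ h
    obtain ⟨h1, h2⟩ := cover_inj f γ hcomm hexp hfree hinj hgen hij hkl (congrArg Subtype.val h)
    exact Subtype.ext (Prod.ext h1 h2)
  obtain ⟨p, hp⟩ := ((Nat.bijective_iff_injective_and_card ψ).2 ⟨hψ, hP.trans hT.symm⟩).2 ⟨x, hx⟩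
  exact ⟨p.1.1, p.1.2, p.2, (congrArg Subtype.val hp).symm⟩

end Cfsg.Agent.TICentralizer
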