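/-
The involutions of `A`, the semiregular action of the two-point stabiliser and Feit's inequality.
-/
import Cfsg.Agent.TICentralizer.Core

set_option autoImplicit false

namespace Cfsg.Agent.TICentralizer

open MulAction
open Cfsg.Agent.Involutions
open Cfsg.Agent.Involutions.Basic (inv_eq inv_sq_one orderOf_conj orderOf_two_iff)

variable {G : Type*} [Group G] [Finite G] {A : Subgroup G}

/-- The order of a two-point stabiliser. -/
noncomputable def e (A : Subgroup G) : ℕ := Nat.card (nA A ⧸ A.subgroupOf (nA A))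

/-- The subgroup generated by the involutions of `A`. -/
def omega (A : Subgroup G) : Subgroup G := Subgroup.closure {x | x ∈ A ∧ orderOf x = 2}

/-- Invariance under the normaliser of `A`. -/
def Inv (A U : Subgroup G) : Prop := ∀ m ∈ nA A, ∀ u ∈ U, m * u * m⁻¹ ∈ U

theorem omega_le : omega A ≤ A := (Subgroup.closure_le _).2 fun _ hx => hx.1

theorem mem_omega_of {x : G} (hx : x ∈ A) (h2 : x * x = 1) : x ∈ omega A := by
  by_cases hx1 : x = 1
  · rw [hx1]; exact one_mem _
  · exact Subgroup.subset_closure ⟨hx, orderOf_two_iff.2 ⟨h2, hx1⟩⟩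

theorem Hyp.omega_sq (h : Hyp A) {x : G} (hx : x ∈ omega A) : x * x = 1 := by
  suffices x ∈ A ∧ x * x = 1 from this.2
  induction hx using Subgroup.closure_induction with
  | mem x hx => exact ⟨hx.1, inv_sq_one hx.2⟩
  | one => exact ⟨one_mem _, one_mul _⟩
  | mul a b _ _ iha ihb =>
    refine ⟨mul_mem iha.1 ihb.1, ?_⟩
    by_cases ha1 : a = 1
    · rw [ha1, one_mul]; exact ihb.2
    · have := h.invol_comm iha.1 (orderOf_two_iff.2 ⟨iha.2, ha1⟩) ihb.1
      calc a * b * (a * b) = a * (b * a) * b := by group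
        _ = (a * a) * (b * b) := by rw [this]; group
        _ = 1 := by rw [iha.2, ihb.2, one_mul]
  | inv a _ iha => exact ⟨inv_mem iha.1, by rw [← mul_inv_rev, iha.2, inv_one]⟩

theorem Hyp.omega_invol (h : Hyp A) {x : G} (hx : x ∈ omega A) (hx1 : x ≠ 1) : orderOf x = 2 :=
  orderOf_two_iff.2 ⟨h.omega_sq hx, hx1⟩

theorem Hyp.omega_comm (h : Hyp A) {x a : G} (hx : x ∈ omega A) (ha : a ∈ A) : a * x = x * a := by
  by_cases hx1 : x = 1
  · rw [hx1, mul_one, one_mul]
  · exact h.invol_comm (omega_le hx) (h.omega_invol hx hx1) ha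

theorem Hyp.omega_inv (h : Hyp A) : Inv A (omega A) := fun m hm u hu =>
  mem_omega_of (conj_mem hm (omega_le hu)) (by rw [conj_mul, h.omega_sq hu, mul_one, mul_inv_cancel])

theorem Hyp.e_odd (h : Hyp A) : Odd (e A) := by
  obtain ⟨y, hy⟩ := h.exists_ne
  rw [e, ← h.card_two hy]
  exact h.odd_two hy

/-- The two-point stabiliser acts semiregularly on the nontrivial elements of `A`. -/
theorem Hyp.dvd_card (h : Hyp A) {S : Set G} (hSA : ∀ x ∈ S, x ∈ A) (hS1 : (1 : G) ∉ S)
    (hinv : ∀ m ∈ nA A, ∀ x ∈ S, m * x * m⁻¹ ∈ S) : e A ∣ Nat.card S := by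
  classical
  obtain ⟨y, hy⟩ := h.exists_ne
  letI : MulAction (two y) S :=
    { smul := fun m a => ⟨(m : G) * a * (m : G)⁻¹, hinv _ m.2.1 _ a.2⟩
      one_smul := fun a => Subtype.ext (by show (1 : G) * a * (1 : G)⁻¹ = a; group)
      mul_smul := fun m k a => Subtype.ext (by
        show ((m : G) * k) * a * ((m : G) * k)⁻¹ = m * (k * a * (k : G)⁻¹) * (m : G)⁻¹; group) }
  have hst : ∀ a : S, stabilizer (two y) a = ⊥ := fun a => (Subgroup.eq_bot_iff_forall _).2 fun m hm => by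
    have e' : (m : G) * a * (m : G)⁻¹ = a := congrArg Subtype.val (mem_stabilizer_iff.1 hm)
    exact Subtype.ext (h.two_inf hy m.2 (h.mem_of_commute (hSA _ a.2)
      (fun e1 => hS1 (e1 ▸ a.2)) (mul_inv_eq_iff_eq_mul.1 e')))
  rw [Nat.card_congr (selfEquivSigmaOrbitsQuotientStabilizer (two y) S)]
  have := Fintype.ofFinite (Quotient (orbitRel (two y) S))
  rw [Nat.card_sigma]
  refine Finset.dvd_sum fun ω _ => ?_
  rw [hst, ← Subgroup.index_eq_card, Subgroup.index_bot, e, h.card_two hy]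

/-- Conjugates of an involution of `A` under the two-point stabiliser. -/
theorem Hyp.conj_inj (h : Hyp A) {y : G ⧸ nA A} (hy : y ≠ o A) {s a b : G} (hs : s ∈ A) (hs1 : s ≠ 1)
    (ha : a ∈ two y) (hb : b ∈ two y) (hab : a * s * a⁻¹ = b * s * b⁻¹) : a = b := by
  refine inv_mul_eq_one.1 (h.two_inf hy (mul_mem (inv_mem ha) hb) (h.mem_of_commute hs hs1 ?_))
  calc a⁻¹ * b * s = a⁻¹ * (b * s * b⁻¹) * b := by group
    _ = a⁻¹ * (a * s * a⁻¹) * b := by rw [hab]
    _ = s * (a⁻¹ * b) := by group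

theorem Hyp.card_invol (h : Hyp A) : Nat.card {t : G // orderOf t = 2 ∧ t ∈ A} = e A := by
  obtain ⟨y, hy⟩ := h.exists_ne
  obtain ⟨s, -, hs, -, hso, -, -⟩ := h.two_involutions
  rw [e, ← h.card_two hy]
  refine (Nat.card_eq_of_bijective (fun d : two y =>
    (⟨(d : G) * s * (d : G)⁻¹, by rw [orderOf_conj, hso], conj_mem d.2.1 hs⟩ :
      {t : G // orderOf t = 2 ∧ t ∈ A})) ⟨?_, ?_⟩).symm
  · intro a b hab
    exact Subtype.ext (h.conj_inj hy hs (Basic.ne_one hso) a.2 b.2 (congrArg Subtype.val hab))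
  · rintro ⟨t, hto, ht⟩
    obtain ⟨d, hd, hdt⟩ := h.exists_conj hy hs hso ht hto
    exact ⟨⟨d, hd⟩, Subtype.ext hdt⟩

theorem Hyp.card_omega (h : Hyp A) : Nat.card (omega A) = e A + 1 := by
  classical
  have := Fintype.ofFinite G
  rw [← h.card_invol, ← Finite.card_option (α := {t : G // orderOf t = 2 ∧ t ∈ A})]
  refine Nat.card_congr (Equiv.symm ((Equiv.optionSubtypeNe (⟨1, one_mem _⟩ : omega A)).symm.trans
    (Equiv.optionCongr ?_)).symm)
  exact
    { toFun := fun x => ⟨x.1.1, h.omega_invol x.1.2 (fun e' => x.2 (Subtype.ext e')), omega_le x.1.2⟩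
      invFun := fun t => ⟨⟨t.1, Subgroup.subset_closure ⟨t.2.2, t.2.1⟩⟩,
        fun e' => Basic.ne_one t.2.1 (congrArg Subtype.val e')⟩
      left_inv := fun x => rfl
      right_inv := fun t => rfl }

theorem Hyp.omega_isPGroup (h : Hyp A) : IsPGroup 2 (omega A) := fun x =>
  ⟨1, Subtype.ext (by rw [pow_one, pow_two]; exact h.omega_sq x.2)⟩

/-- `e + 1` is a power of two, at least four. -/
theorem Hyp.exists_exp (h : Hyp A) : ∃ n : ℕ, 2 ≤ n ∧ e A + 1 = 2 ^ n := by
  have : Fact (Nat.Prime 2) := ⟨Nat.prime_two⟩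
  obtain ⟨n, hn⟩ := IsPGroup.iff_card.1 h.omega_isPGroup
  rw [h.card_omega] at hn
  refine ⟨n, ?_, hn⟩
  have h2 : 2 ≤ e A := by
    obtain ⟨y, hy⟩ := h.exists_ne
    rw [e, ← h.card_two hy]
    exact h.three_le_two hy
  rcases n with _ | _ | n
  · simp at hn; omega
  · simp at hn; omega
  · omega

/-- Feit's inequality: `A` is elementary or a nonabelian 2-group with small commutator quotient. -/
theorem Hyp.feit (h : Hyp A) : (∀ a ∈ A, a * a = 1) ∨
    (IsPGroup 2 A ∧ (∃ u v : A, u * v ≠ v * u) ∧ (commutator A).index ≤ 4 * e A ^ 2 + 1) := by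
  classical
  have := Fintype.ofFinite (G ⧸ nA A)
  obtain ⟨y, hy⟩ := h.exists_ne
  obtain ⟨hn, -⟩ := h.regular hy
  have htwo : (stabilizer G (o A) ⊓ stabilizer G y : Subgroup G) = two y := by
    ext g; exact and_congr_left fun _ => smul_o
  have hcard : Nat.card ↥(stabilizer G (o A) ⊓ stabilizer G y : Subgroup G) = e A := by
    rw [htwo, h.card_two hy, e]
  rcases Cfsg.Agent.S0885.result h.zassenhaus (Ne.symm hy) (Nat.card A) (e A)
    (by rw [← Nat.card_eq_fintype_card, hn]) hcard h.e_odd A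
    (fun g hg => smul_o.2 (le_nA hg)) (by rw [← Nat.card_eq_fintype_card, hn])
    (fun u hu hu1 c hc => h.fixed_o hu hu1 hc) with hle | h2
  swap
  · exact Or.inr h2
  left
  have hdvd : e A ∣ Nat.card ((A : Set G) \ {1} : Set G) :=
    h.dvd_card (fun x hx => hx.1) (fun h1 => h1.2 rfl) fun m hm x hx =>
      ⟨conj_mem hm hx.1, fun e' => hx.2 (conj_eq_one_iff.1 e')⟩
  have hc : Nat.card ((A : Set G) \ {1} : Set G) = Nat.card A - 1 := by
    rw [Nat.card_coe_set_eq, Set.ncard_sdiff_singleton_of_mem A.one_mem, ← Nat.card_coe_set_eq]; rfl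
  rw [hc] at hdvd
  obtain ⟨s, -, hs, -, hso, -, -⟩ := h.two_involutions
  have heven : 2 ∣ Nat.card A := hso ▸ A.orderOf_dvd_natCard hs
  have hpos : 0 < Nat.card A := Nat.card_pos
  obtain ⟨r, hr⟩ := h.e_odd
  have heq : Nat.card A = e A + 1 := by
    obtain ⟨k, hk⟩ := hdvd
    obtain ⟨j, hj⟩ := heven
    have hk1 : k ≤ 2 := by
      by_contra hk3
      have : e A * 3 ≤ e A * k := Nat.mul_le_mul_left _ (by omega)
      omega
    interval_cases k <;> omega
  intro a ha
  have : omega A = A := Subgroup.eq_of_le_of_card_ge omega_le (by rw [h.card_omega, heq])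
  exact h.omega_sq (this.symm ▸ ha)

end Cfsg.Agent.TICentralizer
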