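/-
In the nonabelian case the squares of `A` are involutions.
-/
import Cfsg.Agent.TICentralizer.Omega

set_option autoImplicit false

namespace Cfsg.Agent.TICentralizer

open MulAction
open Cfsg.Agent.Involutions
open scoped commutatorElement

variable {G : Type*} [Group G] [Finite G] {A : Subgroup G}

theorem inv_of_map_le {U : Subgroup G}
    (h : ∀ m ∈ nA A, U.map (MulAut.conj m).toMonoidHom ≤ U) : Inv A U :=
  fun m hm u hu => h m hm ⟨u, hu, rfl⟩

theorem Inv.map_le {U : Subgroup G} (h : Inv A U) {m : G} (hm : m ∈ nA A) :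
    U.map (MulAut.conj m).toMonoidHom ≤ U := by
  rintro _ ⟨u, hu, rfl⟩
  exact h m hm u hu

theorem Inv.sup {U V : Subgroup G} (hU : Inv A U) (hV : Inv A V) : Inv A (U ⊔ V) :=
  inv_of_map_le fun m hm => by
    rw [Subgroup.map_sup]
    exact sup_le_sup (hU.map_le hm) (hV.map_le hm)

theorem Inv.inf {U V : Subgroup G} (hU : Inv A U) (hV : Inv A V) : Inv A (U ⊓ V) :=
  fun m hm u hu => ⟨hU m hm u hu.1, hV m hm u hu.2⟩

theorem inv_closure {S : Set G} (hS : ∀ m ∈ nA A, ∀ x ∈ S, m * x * m⁻¹ ∈ Subgroup.closure S) :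
    Inv A (Subgroup.closure S) :=
  inv_of_map_le fun m hm => by
    rw [MonoidHom.map_closure, Subgroup.closure_le]
    rintro _ ⟨x, hx, rfl⟩
    exact hS m hm x hx

theorem inv_self : Inv A A := fun _ hm _ hu => conj_mem hm hu

theorem inv_commutator : Inv A ⁅A, A⁆ := inv_of_map_le fun m hm => by
  rw [Subgroup.map_commutator]
  exact Subgroup.commutator_mono (inv_self.map_le hm) (inv_self.map_le hm)

/-- The subgroup generated by the conjugates of `x` under the normaliser of `A`. -/
def conjClosure (A : Subgroup G) (x : G) : Subgroup G :=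
  Subgroup.closure {w | ∃ m ∈ nA A, m * x * m⁻¹ = w}

theorem self_mem_conjClosure (x : G) : x ∈ conjClosure A x :=
  Subgroup.subset_closure ⟨1, one_mem _, by group⟩

theorem inv_conjClosure (x : G) : Inv A (conjClosure A x) := inv_closure fun m hm w hw => by
  obtain ⟨k, hk, rfl⟩ := hw
  exact Subgroup.subset_closure ⟨m * k, mul_mem hm hk, by group⟩

theorem conjClosure_le {x : G} (hx : x ∈ A) : conjClosure A x ≤ A := by
  refine (Subgroup.closure_le _).2 ?_
  rintro w ⟨k, hk, rfl⟩
  exact conj_mem hk hx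

theorem Hyp.conjClosure_comm (h : Hyp A) {x : G} (hx : x ∈ A) (hx1 : x ≠ 1) :
    ∀ a ∈ conjClosure A x, ∀ b ∈ conjClosure A x, a * b = b * a := by
  have hgen : ∀ m ∈ nA A, ∀ k ∈ nA A, Commute (m * x * m⁻¹) (k * x * k⁻¹) := by
    intro m hm k hk
    have h1 := h.cent_conj hx hx1 rfl (mul_mem (inv_mem hm) hk)
    show m * x * m⁻¹ * (k * x * k⁻¹) = k * x * k⁻¹ * (m * x * m⁻¹)
    calc m * x * m⁻¹ * (k * x * k⁻¹) = m * (x * (m⁻¹ * k * x * (m⁻¹ * k)⁻¹)) * m⁻¹ := by group
      _ = m * (m⁻¹ * k * x * (m⁻¹ * k)⁻¹ * x) * m⁻¹ := by rw [h1]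
      _ = _ := by group
  have hle : conjClosure A x ≤ Subgroup.centralizer {w | ∃ m ∈ nA A, m * x * m⁻¹ = w} := by
    refine (Subgroup.closure_le _).2 ?_
    rintro w ⟨m, hm, rfl⟩
    refine Subgroup.mem_centralizer_iff.2 ?_
    rintro v ⟨k, hk, rfl⟩
    exact (hgen k hk m hm).eq
  intro a ha b hb
  have hb' : conjClosure A x ≤ Subgroup.centralizer (conjClosure A x : Set G) := by
    refine (Subgroup.closure_le _).2 fun c hc => Subgroup.mem_centralizer_iff.2 fun d hd => ?_
    exact (Subgroup.mem_centralizer_iff.1 (hle hd) c hc).symm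
  exact Subgroup.mem_centralizer_iff.1 (hb' hb) a ha

/-- The indices between invariant subgroups of a 2-group `A` are powers of `e + 1`. -/
theorem Hyp.card_step (h : Hyp A) (h2 : IsPGroup 2 A) {n : ℕ} (hn : e A + 1 = 2 ^ n) {U V : Subgroup G}
    (hU : Inv A U) (hV : Inv A V) (hUV : U ≤ V) (hVA : V ≤ A) :
    ∃ i : ℕ, Nat.card V = Nat.card U * 2 ^ (n * i) := by
  have : Fact (Nat.Prime 2) := ⟨Nat.prime_two⟩
  have hpU : IsPGroup 2 U := h2.to_le (hUV.trans hVA)
  have hpV : IsPGroup 2 V := h2.to_le hVA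
  obtain ⟨a, ha⟩ := IsPGroup.iff_card.1 hpU
  obtain ⟨b, hb⟩ := IsPGroup.iff_card.1 hpV
  have hdv := Subgroup.card_dvd_of_le hUV
  rw [ha, hb, Nat.pow_dvd_pow_iff_le_right (by omega)] at hdv
  obtain ⟨j, rfl⟩ := Nat.exists_eq_add_of_le hdv
  have h1 : e A ∣ Nat.card ((V : Set G) \ (U : Set G) : Set G) :=
    h.dvd_card (fun x hx => hVA hx.1) (fun h1 => h1.2 U.one_mem) fun m hm x hx =>
      ⟨hV m hm x hx.1, fun e' => hx.2 (by
        have := hU m⁻¹ (inv_mem hm) _ e'
        simpa [mul_assoc] using this)⟩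
  rw [Nat.card_coe_set_eq, Set.ncard_sdiff (SetLike.coe_subset_coe.2 hUV),
    ← Nat.card_coe_set_eq, ← Nat.card_coe_set_eq] at h1
  change e A ∣ Nat.card V - Nat.card U at h1
  rw [ha, hb, pow_add, ← Nat.mul_sub_one] at h1
  have hco : Nat.Coprime (e A) (2 ^ a) := (Nat.coprime_two_right.2 h.e_odd).pow_right a
  have h3 : e A ∣ 2 ^ j - 1 := hco.dvd_of_dvd_mul_left h1
  have he : e A = 2 ^ n - 1 := by omega
  have h4 := Nat.gcd_eq_left h3
  rw [he, Nat.pow_sub_one_gcd_pow_sub_one] at h4
  have h5 : n.gcd j = n := Nat.pow_right_injective (le_refl 2) (show 2 ^ n.gcd j = 2 ^ n by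
    have h6 : 1 ≤ 2 ^ n.gcd j := Nat.one_le_two_pow
    have h7 : 1 ≤ 2 ^ n := Nat.one_le_two_pow
    omega)
  obtain ⟨i, hi⟩ := Nat.gcd_eq_left_iff_dvd.1 h5
  exact ⟨i, by rw [hb, ha, pow_add, hi]⟩

/-- A normal subgroup supplementing the commutator subgroup of a 2-group is everything. -/
theorem eq_of_sup_commutator (h2 : IsPGroup 2 A) {K : Subgroup G} (hK : Inv A K) (hKA : K ≤ A)
    (hsup : A ≤ K ⊔ ⁅A, A⁆) : K = A := by
  have : Fact (Nat.Prime 2) := ⟨Nat.prime_two⟩
  have hn : (K.subgroupOf A).Normal := ⟨fun k hk a => hK a (le_nA a.2) k hk⟩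
  have hnil : Group.IsNilpotent A := h2.isNilpotent
  have htop : K.subgroupOf A ⊔ commutator A = ⊤ := by
    refine eq_top_iff.2 ?_
    rw [← Subgroup.map_le_map_iff_of_injective A.subtype_injective, ← MonoidHom.range_eq_map,
      Subgroup.range_subtype, Subgroup.map_sup, Subgroup.map_subgroupOf_eq_of_le hKA,
      Subgroup.map_subtype_commutator]
    exact hsup
  set π := QuotientGroup.mk' (K.subgroupOf A)
  have hc : commutator (A ⧸ K.subgroupOf A) = ⊤ := by
    have h1 : (commutator A).map π = (⊤ : Subgroup A).map π := by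
      rw [← htop, Subgroup.map_sup, QuotientGroup.map_mk'_self, bot_sup_eq]
    rw [commutator_def, ← Subgroup.map_top_of_surjective π (QuotientGroup.mk'_surjective _),
      ← Subgroup.map_commutator, ← commutator_def, h1]
  have hsub : Subsingleton (A ⧸ K.subgroupOf A) := by
    by_contra hns
    rw [not_subsingleton_iff_nontrivial] at hns
    have hsol : Group.IsSolvable (A ⧸ K.subgroupOf A) := inferInstance
    exact (Group.IsSolvable.commutator_lt_top_of_nontrivial (A ⧸ K.subgroupOf A)).ne hc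
  have h3 : K.subgroupOf A = ⊤ := eq_top_iff.2 fun a _ =>
    (QuotientGroup.eq_one_iff a).1 (Subsingleton.elim _ _)
  exact le_antisymm hKA (Subgroup.subgroupOf_eq_top.1 h3)

/-- In a 2-group the squares and the commutators generate a proper subgroup. -/
theorem exists_sq_subgroup (h2 : IsPGroup 2 A) (hA : A ≠ ⊥) :
    ∃ U : Subgroup G, U ≤ A ∧ U ≠ A ∧ Inv A U ∧ ⁅A, A⁆ ≤ U ∧ ∀ a ∈ A, a * a ∈ U := by
  have : Fact (Nat.Prime 2) := ⟨Nat.prime_two⟩
  refine ⟨Subgroup.closure {w | ∃ a ∈ A, a * a = w} ⊔ ⁅A, A⁆, ?_, ?_, ?_, le_sup_right, ?_⟩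
  · refine sup_le ((Subgroup.closure_le _).2 ?_) (Subgroup.commutator_le_self A)
    rintro w ⟨a, ha, rfl⟩
    exact mul_mem ha ha
  · intro heq
    have hnil : Group.IsNilpotent A := h2.isNilpotent
    have hne : (⊥ : Subgroup A) ≠ ⊤ := fun e' => hA ((Subgroup.eq_bot_iff_forall _).2 fun x hx => by
      have : (⟨x, hx⟩ : A) ∈ (⊥ : Subgroup A) := e' ▸ Subgroup.mem_top _
      exact congrArg Subtype.val (Subgroup.mem_bot.1 this))
    obtain ⟨K, hK, -⟩ := (eq_top_or_exists_le_coatom (⊥ : Subgroup A)).resolve_left hne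
    have hKn : K.Normal := Subgroup.NormalizerCondition.normal_of_coatom (H := K) Group.normalizerCondition_of_isNilpotent hK
    obtain ⟨m, hm⟩ := h2.index K
    have hidx : K.index = 2 := by
      by_contra h
      rcases m with _ | _ | m
      · exact hK.1 (Subgroup.index_eq_one.1 (by simpa using hm))
      · exact h (by simpa using hm)
      · obtain ⟨L, hL⟩ := Sylow.exists_subgroup_card_pow_prime 2 (G := A ⧸ K) (n := 1)
          (by rw [← Subgroup.index_eq_card, hm]; exact pow_dvd_pow 2 (by omega))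
        have hlt : K < L.comap (QuotientGroup.mk' K) := by
          refine lt_of_le_of_ne (fun k hk => ?_) fun e' => ?_
          · rw [Subgroup.mem_comap, QuotientGroup.mk'_apply, (QuotientGroup.eq_one_iff k).2 hk]
            exact one_mem _
          · have := congrArg (Subgroup.map (QuotientGroup.mk' K)) e'
            rw [QuotientGroup.map_mk'_self, Subgroup.map_comap_eq_self_of_surjective
              (QuotientGroup.mk'_surjective K)] at this
            rw [← this, Subgroup.card_bot] at hL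
            simp at hL
        have htop := hK.2 _ hlt
        have hLt : L = ⊤ := Subgroup.comap_injective (QuotientGroup.mk'_surjective K)
          (htop.trans (Subgroup.comap_top _).symm)
        rw [hLt, Subgroup.card_top, ← Subgroup.index_eq_card, hm] at hL
        exact absurd (Nat.pow_right_injective (le_refl 2) hL) (by omega)
    have hKA : Subgroup.closure {w | ∃ a ∈ A, a * a = w} ⊔ ⁅A, A⁆ ≤ K.map A.subtype := by
      refine sup_le ((Subgroup.closure_le _).2 ?_) ?_
      · rintro w ⟨a, ha, rfl⟩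
        exact ⟨⟨a, ha⟩ * ⟨a, ha⟩, Subgroup.mul_self_mem_of_index_two hidx _, rfl⟩
      · rw [← Subgroup.map_subtype_commutator]
        refine Subgroup.map_mono ?_
        rw [commutator_def]
        refine Subgroup.commutator_le.2 fun a _ b _ => ?_
        rw [commutatorElement_def]
        simp only [Subgroup.mul_mem_iff_of_index_two hidx, inv_mem_iff]
        tauto
    refine hK.1 (eq_top_iff.2 ((Subgroup.map_le_map_iff_of_injective A.subtype_injective).1 ?_))
    rw [← MonoidHom.range_eq_map, Subgroup.range_subtype]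
    exact heq.symm.le.trans hKA
  · refine (inv_closure ?_).sup inv_commutator
    rintro m hm _ ⟨a, ha, rfl⟩
    exact Subgroup.subset_closure ⟨m * a * m⁻¹, conj_mem hm ha, by rw [conj_mul]⟩
  · exact fun a ha => Subgroup.mem_sup_left (Subgroup.subset_closure ⟨a, ha, rfl⟩)

theorem index_commutator_eq : Nat.card A = Nat.card (⁅A, A⁆ : Subgroup G) * (commutator A).index := by
  rw [← Subgroup.map_subtype_commutator, Subgroup.card_map_of_injective A.subtype_injective,
    mul_comm, Subgroup.index_mul_card]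

/-- In the nonabelian case every square in `A` lies in `omega A`. -/
theorem Hyp.sq_mem_omega (h : Hyp A) (h2 : IsPGroup 2 A) (hnab : ∃ u v : A, u * v ≠ v * u)
    (hidx : (commutator A).index ≤ 4 * e A ^ 2 + 1) : ∀ a ∈ A, a * a ∈ omega A := by
  classical
  obtain ⟨n, hn2, hn⟩ := h.exists_exp
  obtain ⟨u₀, v₀, huv⟩ := hnab
  have hA : A ≠ ⊥ := by
    rintro rfl
    exact huv (Subsingleton.elim _ _)
  set A₁ : Subgroup G := ⁅A, A⁆ with hA₁
  have hA1A : A₁ ≤ A := Subgroup.commutator_le_self A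
  obtain ⟨U, hUA, hUne, hUi, hA1U, hsq⟩ := exists_sq_subgroup h2 hA
  obtain ⟨i, hi⟩ := h.card_step h2 hn inv_commutator inv_self hA1A le_rfl
  have hpos : 0 < Nat.card (⁅A, A⁆ : Subgroup G) := Nat.card_pos
  have hi2 : i ≤ 2 := by
    have h1 := index_commutator_eq (A := A)
    rw [hi] at h1
    rw [← Nat.eq_of_mul_eq_mul_left hpos h1] at hidx
    by_contra h3
    have h4 : 2 ^ (n * 3) ≤ 2 ^ (n * i) :=
      Nat.pow_le_pow_right (by omega) (Nat.mul_le_mul_left n (by omega))
    have h5 : e A < 2 ^ n := by omega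
    have h6 : 4 ≤ 2 ^ n := le_trans (le_of_eq (by norm_num)) (Nat.pow_le_pow_right (by omega : 2 > 0) hn2)
    rw [pow_mul] at h4
    have h7 : 4 * e A ^ 2 + 1 < (2 ^ n) ^ 3 := by
      rw [← hn] at h6 ⊢
      obtain ⟨r, hr⟩ : ∃ r, e A = r + 3 := ⟨e A - 3, by omega⟩
      rw [hr]
      ring_nf
      omega
    omega
  -- a nontrivial element gives an abelian normal subgroup of index `2 ^ n`
  have step : ∀ x ∈ A, x ∉ A₁ →
      Nat.card (conjClosure A x ⊔ A₁ : Subgroup G) = Nat.card A₁ * 2 ^ n ∧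
      Nat.card A = Nat.card (conjClosure A x ⊔ A₁ : Subgroup G) * 2 ^ n := by
    intro x hx hx1
    set V := conjClosure A x ⊔ A₁
    have hVA : V ≤ A := sup_le (conjClosure_le hx) hA1A
    have hVi : Inv A V := (inv_conjClosure x).sup inv_commutator
    have hne : V ≠ A := fun heq => by
      have hK := eq_of_sup_commutator h2 (inv_conjClosure x) (conjClosure_le hx) (le_of_eq heq.symm)
      refine huv (Subtype.ext (h.conjClosure_comm hx (fun e' => hx1 (e' ▸ one_mem _)) _ ?_ _ ?_))
      · rw [hK]; exact u₀.2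
      · rw [hK]; exact v₀.2
    obtain ⟨j, hj⟩ := h.card_step h2 hn inv_commutator hVi le_sup_right hVA
    obtain ⟨k, hk⟩ := h.card_step h2 hn hVi inv_self hVA le_rfl
    have hj0 : j ≠ 0 := by
      rintro rfl
      have : A₁ = V := Subgroup.eq_of_le_of_card_ge le_sup_right (by rw [hj]; simp [A₁])
      exact hx1 (this.symm ▸ Subgroup.mem_sup_left (self_mem_conjClosure x))
    have hk0 : k ≠ 0 := by
      rintro rfl
      exact hne (Subgroup.eq_of_le_of_card_ge hVA (by rw [hk]; simp))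
    have hjk : j + k = i := by
      rw [hi, hj, mul_assoc, ← pow_add, ← mul_add] at hk
      exact (Nat.eq_of_mul_eq_mul_left (by omega : 0 < n)
        (Nat.pow_right_injective (le_refl 2) (Nat.eq_of_mul_eq_mul_left hpos hk))).symm
    have hj1 : j = 1 := by omega
    have hk1 : k = 1 := by omega
    subst hj1 hk1
    rw [mul_one] at hj hk
    exact ⟨hj, hk⟩
  obtain ⟨x, hxA, hxU⟩ := SetLike.exists_of_lt (lt_of_le_of_ne hUA hUne)
  have hx1 : x ∉ A₁ := fun e' => hxU (hA1U e')
  obtain ⟨hV1, hV2⟩ := step x hxA hx1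
  set V := conjClosure A x ⊔ A₁ with hV
  have hVA : V ≤ A := sup_le (conjClosure_le hxA) hA1A
  have hVi : Inv A V := (inv_conjClosure x).sup inv_commutator
  have hVU : ∀ w ∈ V, w ∈ U → w ∈ A₁ := by
    obtain ⟨l, hl⟩ := h.card_step h2 hn inv_commutator (hVi.inf hUi) (le_inf le_sup_right hA1U)
      (inf_le_left.trans hVA)
    obtain ⟨r, hr⟩ := h.card_step h2 hn (hVi.inf hUi) hVi inf_le_left hVA
    have hr0 : r ≠ 0 := by
      rintro rfl
      have : V ⊓ U = V := Subgroup.eq_of_le_of_card_ge inf_le_left (by rw [hr]; simp [A₁])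
      exact hxU (this.symm ▸ Subgroup.mem_sup_left (self_mem_conjClosure x) : x ∈ V ⊓ U).2
    rw [hl, hV1, mul_assoc, ← pow_add, ← mul_add] at hr
    have hlr := Nat.pow_right_injective (le_refl 2) (Nat.eq_of_mul_eq_mul_left hpos hr)
    have hl0 : l = 0 := by
      have : l + r = 1 := (Nat.eq_of_mul_eq_mul_left (by omega : 0 < n) (by rw [mul_one]; exact hlr.symm))
      omega
    subst hl0
    have hEq : A₁ = V ⊓ U := Subgroup.eq_of_le_of_card_ge (le_inf le_sup_right hA1U) (by rw [hl]; simp [A₁])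
    exact fun w hw hwU => hEq.symm ▸ ⟨hw, hwU⟩
  have hxsq : x * x ∈ A₁ := hVU _
    (mul_mem (Subgroup.mem_sup_left (self_mem_conjClosure x)) (Subgroup.mem_sup_left (self_mem_conjClosure x)))
    (hsq x hxA)
  have hVne : V ≠ A := fun e' => by
    rw [e'] at hV2
    have := Nat.pow_le_pow_right (show 2 > 0 by omega) (show 1 ≤ n by omega)
    have hp : 0 < Nat.card A := Nat.card_pos
    nlinarith
  obtain ⟨y, hyA, hyU, hyV⟩ : ∃ y ∈ A, y ∉ U ∧ y ∉ V := by
    obtain ⟨a, haA, haV⟩ := SetLike.exists_of_lt (lt_of_le_of_ne hVA hVne)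
    by_cases haU : a ∈ U
    · refine ⟨a * x, mul_mem haA hxA, fun e' => hxU ((U.mul_mem_cancel_left haU).1 e'),
        fun e' => haV ((V.mul_mem_cancel_right (Subgroup.mem_sup_left (self_mem_conjClosure x))).1 e')⟩
    · exact ⟨a, haA, haU, haV⟩
  have hy1 : y ∉ A₁ := fun e' => hyU (hA1U e')
  obtain ⟨hW1, hW2⟩ := step y hyA hy1
  set W := conjClosure A y ⊔ A₁ with hW
  have hWA : W ≤ A := sup_le (conjClosure_le hyA) hA1A
  have hWU : y * y ∈ A₁ := by
    have hWi : Inv A W := (inv_conjClosure y).sup inv_commutator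
    obtain ⟨l, hl⟩ := h.card_step h2 hn inv_commutator (hWi.inf hUi) (le_inf le_sup_right hA1U)
      (inf_le_left.trans hWA)
    obtain ⟨r, hr⟩ := h.card_step h2 hn (hWi.inf hUi) hWi inf_le_left hWA
    have hr0 : r ≠ 0 := by
      rintro rfl
      have : W ⊓ U = W := Subgroup.eq_of_le_of_card_ge inf_le_left (by rw [hr]; simp [A₁])
      exact hyU (this.symm ▸ Subgroup.mem_sup_left (self_mem_conjClosure y) : y ∈ W ⊓ U).2
    rw [hl, hW1, mul_assoc, ← pow_add, ← mul_add] at hr
    have hlr := Nat.pow_right_injective (le_refl 2) (Nat.eq_of_mul_eq_mul_left hpos hr)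
    have hl0 : l = 0 := by
      have : l + r = 1 := (Nat.eq_of_mul_eq_mul_left (by omega : 0 < n) (by rw [mul_one]; exact hlr.symm))
      omega
    subst hl0
    have hEq : A₁ = W ⊓ U := Subgroup.eq_of_le_of_card_ge (le_inf le_sup_right hA1U) (by rw [hl]; simp [A₁])
    exact hEq.symm ▸ ⟨mul_mem (Subgroup.mem_sup_left (self_mem_conjClosure y))
      (Subgroup.mem_sup_left (self_mem_conjClosure y)), hsq y hyA⟩
  set K := conjClosure A x ⊔ conjClosure A y with hK
  have hKA : K ≤ A := sup_le (conjClosure_le hxA) (conjClosure_le hyA)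
  have hKi : Inv A K := (inv_conjClosure x).sup (inv_conjClosure y)
  have hKA' : K = A := by
    refine eq_of_sup_commutator h2 hKi hKA ?_
    have hVK : V ≤ K ⊔ A₁ := sup_le (le_trans le_sup_left le_sup_left) le_sup_right
    obtain ⟨r, hr⟩ := h.card_step h2 hn hVi (hKi.sup inv_commutator) hVK (sup_le hKA hA1A)
    have hr0 : r ≠ 0 := by
      rintro rfl
      have : V = K ⊔ A₁ := Subgroup.eq_of_le_of_card_ge hVK (by rw [hr]; simp [A₁])
      exact hyV (this.symm ▸ Subgroup.mem_sup_left (Subgroup.mem_sup_right (self_mem_conjClosure y)))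
    have : K ⊔ A₁ = A := Subgroup.eq_of_le_of_card_ge (sup_le hKA hA1A) (by
      rw [hr, hV2]
      exact Nat.mul_le_mul_left _ (Nat.pow_le_pow_right (by omega) (by nlinarith [Nat.pos_of_ne_zero hr0])))
    exact le_of_eq this.symm
  have hx0 : x ≠ 1 := fun e' => hx1 (e' ▸ one_mem _)
  have hy0 : y ≠ 1 := fun e' => hy1 (e' ▸ one_mem _)
  set I := conjClosure A x ⊓ conjClosure A y with hI
  -- `I` is central
  have hIc : ∀ w ∈ I, ∀ a ∈ A, a * w = w * a := by
    intro w hw a ha
    rw [← hKA'] at ha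
    have : K ≤ Subgroup.centralizer ({w} : Set G) := sup_le
      (fun k hk => mem_cent' (h.conjClosure_comm hxA hx0 k hk w hw.1))
      (fun k hk => mem_cent' (h.conjClosure_comm hyA hy0 k hk w hw.2))
    exact Subgroup.mem_centralizer_singleton_iff.1 (this ha)
  have hA1I : A₁ ≤ I := by
    have hIn : (I.subgroupOf A).Normal := ⟨fun w hw a => by
      show ((a : A) : G) * w * (a : G)⁻¹ ∈ I
      rw [hIc (w : G) hw _ a.2, mul_inv_cancel_right]; exact hw⟩
    set π := QuotientGroup.mk' (I.subgroupOf A)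
    have hgen : ∀ a b : A, ((a : G) ∈ conjClosure A x ∨ (a : G) ∈ conjClosure A y) →
        ((b : G) ∈ conjClosure A x ∨ (b : G) ∈ conjClosure A y) → π a * π b = π b * π a := by
      intro a b ha hb
      rw [← map_mul, ← map_mul]
      refine QuotientGroup.eq.2 (Subgroup.mem_subgroupOf.2 ?_)
      push_cast
      rcases ha with ha | ha <;> rcases hb with hb | hb
      · rw [h.conjClosure_comm hxA hx0 _ ha _ hb, inv_mul_cancel]; exact one_mem _
      · refine ⟨?_, ?_⟩
        · have := inv_conjClosure (A := A) x (b : G)⁻¹ (inv_mem (le_nA b.2)) _ (inv_mem ha)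
          simpa [mul_assoc] using mul_mem this ha
        · have := inv_conjClosure (A := A) y (a : G)⁻¹ (inv_mem (le_nA a.2)) _ hb
          simpa [mul_assoc] using mul_mem (inv_mem hb) this
      · refine ⟨?_, ?_⟩
        · have := inv_conjClosure (A := A) x (a : G)⁻¹ (inv_mem (le_nA a.2)) _ hb
          simpa [mul_assoc] using mul_mem (inv_mem hb) this
        · have := inv_conjClosure (A := A) y (b : G)⁻¹ (inv_mem (le_nA b.2)) _ (inv_mem ha)
          simpa [mul_assoc] using mul_mem this ha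
      · rw [h.conjClosure_comm hyA hy0 _ ha _ hb, inv_mul_cancel]; exact one_mem _
    have hgtop : (conjClosure A x).subgroupOf A ⊔ (conjClosure A y).subgroupOf A = ⊤ := by
      rw [← Subgroup.subgroupOf_sup (conjClosure_le hxA) (conjClosure_le hyA), ← hK, hKA',
        Subgroup.subgroupOf_self]
    have hall : ∀ a b : A, π a * π b = π b * π a := by
      have h1 : ∀ a : A, ((a : G) ∈ conjClosure A x ∨ (a : G) ∈ conjClosure A y) →
          ∀ b, π a * π b = π b * π a := by
        intro a ha b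
        have hle : (⊤ : Subgroup A) ≤ (Subgroup.centralizer {π a}).comap π := hgtop ▸ sup_le
          (fun c hc => mem_cent' (hgen a c ha (Or.inl hc)).symm)
          (fun c hc => mem_cent' (hgen a c ha (Or.inr hc)).symm)
        exact (Subgroup.mem_centralizer_singleton_iff.1 (hle (Subgroup.mem_top b))).symm
      intro a b
      have hle : (⊤ : Subgroup A) ≤ (Subgroup.centralizer {π b}).comap π := hgtop ▸ sup_le
        (fun c hc => mem_cent' (h1 c (Or.inl hc) b)) (fun c hc => mem_cent' (h1 c (Or.inr hc) b))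
      exact Subgroup.mem_centralizer_singleton_iff.1 (hle (Subgroup.mem_top a))
    rw [hA₁]
    refine Subgroup.commutator_le.2 fun a ha b hb => ?_
    have := hall ⟨a, ha⟩ ⟨b, hb⟩
    have h' : π ⁅(⟨a, ha⟩ : A), (⟨b, hb⟩ : A)⁆ = 1 := by
      rw [map_commutatorElement, commutatorElement_eq_one_iff_mul_comm]; exact this
    exact Subgroup.mem_subgroupOf.1 ((QuotientGroup.eq_one_iff _).1 h')
  have hA1c : ∀ w ∈ A₁, ∀ a ∈ A, a * w = w * a := fun w hw => hIc w (hA1I hw)
  -- all squares lie in the commutator subgroup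
  let Sq : Subgroup G :=
    { carrier := {a | a ∈ A ∧ a * a ∈ A₁}
      one_mem' := ⟨one_mem _, by rw [one_mul]; exact one_mem _⟩
      mul_mem' := fun {a b} ha hb => ⟨mul_mem ha.1 hb.1, by
        have hc : a⁻¹ * b * a * b⁻¹ ∈ A₁ := by
          have h0 : ⁅a⁻¹, b⁆ ∈ ⁅A, A⁆ := Subgroup.commutator_mem_commutator (inv_mem ha.1) hb.1
          rwa [commutatorElement_def, inv_inv] at h0
        rw [show a * b * (a * b) = (a * a) * (a⁻¹ * b * a * b⁻¹) * (b * b) by group]
        exact mul_mem (mul_mem ha.2 hc) hb.2⟩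
      inv_mem' := fun {a} ha => ⟨inv_mem ha.1, by rw [← mul_inv_rev]; exact inv_mem ha.2⟩ }
  have hgenSq : ∀ w ∈ A, w * w ∈ A₁ → conjClosure A w ≤ Sq := by
    intro w hw hw2
    refine (Subgroup.closure_le _).2 ?_
    rintro _ ⟨m, hm, rfl⟩
    exact ⟨conj_mem hm hw, by rw [conj_mul]; exact inv_commutator m hm _ hw2⟩
  have hSq : A ≤ Sq := hKA' ▸ sup_le (hgenSq x hxA hxsq) (hgenSq y hyA hWU)
  have hA1om : A₁ ≤ omega A := by
    rw [hA₁]
    refine Subgroup.commutator_le.2 fun a ha b hb => ?_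
    have hc : ⁅a, b⁆ ∈ A₁ := Subgroup.commutator_mem_commutator ha hb
    refine mem_omega_of (hA1A hc) ?_
    have h1 : a * a * b = b * (a * a) := (hA1c _ (hSq ha).2 b hb).symm
    have h3 := hA1c _ hc a ha
    calc ⁅a, b⁆ * ⁅a, b⁆ = (a * ⁅a, b⁆ * a⁻¹) * ⁅a, b⁆ := by rw [h3]; group
      _ = (a * a) * b * (a * a)⁻¹ * b⁻¹ := by rw [commutatorElement_def]; group
      _ = 1 := by rw [h1]; group
  exact fun a ha => hA1om (hSq ha).2
where
  mem_cent' {H : Type _} [Group H] {w k : H} (hk : k * w = w * k) :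
      k ∈ Subgroup.centralizer ({w} : Set H) := Subgroup.mem_centralizer_singleton_iff.2 hk

end Cfsg.Agent.TICentralizer
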