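/-
An invariant set of points of the Zassenhaus group, obtained from an abelian subgroup of `A`.
-/
import Cfsg.Agent.TICentralizer.Exponent
import Cfsg.Agent.TICentralizer.Cover
import Cfsg.Agent.CTGroup.Core

set_option autoImplicit false

namespace Cfsg.Agent.TICentralizer

open MulAction Pointwise
open Cfsg.Agent.Involutions
open Cfsg.Agent.Involutions.Basic (inv_eq inv_sq_one orderOf_conj orderOf_two_iff)

variable {G : Type*} [Group G] [Finite G] {A : Subgroup G}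

theorem smul_o_of_mem {g : G} (hg : g ∈ A) : g • o A = o A := smul_o.2 (le_nA hg)

theorem Hyp.ne_o_smul (h : Hyp A) {y : G ⧸ nA A} (hy : y ≠ o A) {m : G} (hm : m ∈ nA A) :
    m • y ≠ o A := fun e' => hy (by rw [← inv_smul_smul m y, e', smul_o.2 (inv_mem hm)])

/-- Elements of `A` are determined by the image of `y`. -/
theorem Hyp.eq_of_smul (h : Hyp A) {y : G ⧸ nA A} (hy : y ≠ o A) {a b : G} (ha : a ∈ A) (hb : b ∈ A)
    (e' : a • y = b • y) : a = b := by
  refine (inv_mul_eq_one.1 (h.two_inf hy ⟨le_nA (mul_mem (inv_mem hb) ha), ?_⟩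
    (mul_mem (inv_mem hb) ha))).symm
  show (b⁻¹ * a) • y = y
  rw [mul_smul, e', inv_smul_smul]

theorem two_smul_conj {y : G ⧸ nA A} {d : G} (hd : d ∈ two y) (a : G) :
    (d * a * d⁻¹) • y = d • (a • y) := by
  have h1 : d⁻¹ • y = y := (inv_mem hd : d⁻¹ ∈ two y).2
  rw [mul_smul, h1, mul_smul]

/-- Squaring is surjective on a two-point stabiliser. -/
theorem Hyp.exists_sqrt (h : Hyp A) {y : G ⧸ nA A} (hy : y ≠ o A) {d : G} (hd : d ∈ two y) :
    ∃ δ ∈ two y, δ * δ = d := by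
  obtain ⟨r, hr⟩ := h.odd_two hy
  refine ⟨d ^ (r + 1), pow_mem hd _, ?_⟩
  have h1 : d ^ (2 * r + 1) = 1 := by
    rw [← hr]; exact orderOf_dvd_iff_pow_eq_one.1 ((two y).orderOf_dvd_natCard hd)
  rw [← pow_add, show r + 1 + (r + 1) = 2 * r + 1 + 1 by omega, pow_succ, h1, one_mul]

/-- An involution exchanging `o` and `y`, with a fixed point named by an element of `A`. -/
structure Base (A : Subgroup G) (y : G ⧸ nA A) (t γ : G) : Prop where
  hy : y ≠ o A
  t_invol : orderOf t = 2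
  t_o : t • o A = y
  γ_mem : γ ∈ A
  fix : t • (γ • y) = γ • y

theorem Hyp.exists_base (h : Hyp A) : ∃ y t γ, Base A y t γ := by
  obtain ⟨y, hy⟩ := h.exists_ne
  obtain ⟨t, ht, hto, hty, -⟩ := h.exists_swap hy
  obtain ⟨c, hc, -⟩ := StronglyEmbedded.existsUnique_fixed h.stronglyEmbedded ht
  have hco : c ≠ o A := fun e' => hy (by rw [← hto, ← e', hc])
  obtain ⟨γ, hγ, hγy⟩ := (h.regular hy).2 c hco
  exact ⟨y, t, γ, hy, ht, hto, hγ, hγy ▸ hc⟩

variable {y : G ⧸ nA A} {t γ : G}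

theorem Base.t_y (hb : Base A y t γ) : t • y = o A := by
  rw [← hb.t_o, smul_smul, inv_sq_one hb.t_invol, one_smul]

theorem Base.γ_ne_one (hb : Base A y t γ) : γ ≠ 1 := fun e' => hb.hy (by
  have h1 := hb.fix
  rw [e', one_smul, hb.t_y] at h1
  exact h1.symm)

theorem Base.t_conj (h : Hyp A) (hb : Base A y t γ) {d : G} (hd : d ∈ two y) : t * d = d⁻¹ * t := by
  have := h.inverts hb.hy hb.t_invol hb.t_o hd
  rw [mul_inv_eq_iff_eq_mul] at this
  exact this

/-- An element exchanging `o` and `y` is `d * t * d⁻¹` for some `d` fixing both. -/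
theorem Base.exchange (h : Hyp A) (hb : Base A y t γ) {w : G} (hw1 : w • o A = y) (hw2 : w • y = o A) :
    ∃ δ ∈ two y, w = δ * t * δ⁻¹ := by
  have hd : w * t ∈ two y := ⟨smul_o.1 (by rw [mul_smul, hb.t_o, hw2]), by
    show (w * t) • y = y
    rw [mul_smul, hb.t_y, hw1]⟩
  obtain ⟨δ, hδ, hδ2⟩ := h.exists_sqrt hb.hy hd
  refine ⟨δ, hδ, ?_⟩
  rw [mul_assoc, hb.t_conj h (inv_mem hδ), inv_inv, ← mul_assoc, hδ2, mul_assoc,
    inv_sq_one hb.t_invol, mul_one]

theorem Base.exchange_fix (hb : Base A y t γ) {δ : G} (hδ : δ ∈ two y) :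
    (δ * t * δ⁻¹) • ((δ * γ * δ⁻¹) • y) = (δ * γ * δ⁻¹) • y := by
  rw [two_smul_conj hδ, mul_smul, inv_smul_smul, mul_smul, hb.fix]

/-- Conjugates of involutions of `A` by `t`. -/
theorem Base.conj_invol (h : Hyp A) (hb : Base A y t γ) {s : G} (hs : s ∈ A) (hso : orderOf s = 2) :
    ∃ δ ∈ two y, t * s * t = (δ * γ * δ⁻¹)⁻¹ * (δ * t * δ⁻¹) * (δ * γ * δ⁻¹) := by
  set v := t * s * t with hv
  have htt := inv_sq_one hb.t_invol
  have hvo : orderOf v = 2 := by
    have : v = t * s * t⁻¹ := by rw [inv_eq hb.t_invol]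
    rw [this, orderOf_conj, hso]
  have hvy : v • y = y := by
    rw [hv, mul_smul, hb.t_y, mul_smul, smul_o_of_mem hs, hb.t_o]
  have hvo' : v • o A ≠ o A := fun e' => hb.hy
    ((StronglyEmbedded.existsUnique_fixed h.stronglyEmbedded hvo).unique hvy e')
  obtain ⟨p, hp, hpy⟩ := (h.regular hb.hy).2 _ hvo'
  have hpo : p⁻¹ • o A = o A := smul_o_of_mem (inv_mem hp)
  set w := p⁻¹ * v * p with hw
  have hwo : orderOf w = 2 := by
    have : w = p⁻¹ * v * (p⁻¹)⁻¹ := by rw [inv_inv]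
    rw [this, orderOf_conj, hvo]
  have hw1 : w • o A = y := by
    rw [hw, mul_smul, smul_o_of_mem hp, mul_smul, ← hpy, inv_smul_smul]
  have hw2 : w • y = o A := by
    rw [← hw1, smul_smul, inv_sq_one hwo, one_smul]
  obtain ⟨δ, hδ, hδw⟩ := hb.exchange h hw1 hw2
  have hf1 : w • (p⁻¹ • y) = p⁻¹ • y := by
    rw [hw, mul_smul, smul_inv_smul, mul_smul, hvy]
  have hf2 : w • ((δ * γ * δ⁻¹) • y) = (δ * γ * δ⁻¹) • y := by rw [hδw]; exact hb.exchange_fix hδ
  have hpγ := h.eq_of_smul hb.hy (inv_mem hp) (conj_mem hδ.1 hb.γ_mem)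
    ((StronglyEmbedded.existsUnique_fixed h.stronglyEmbedded hwo).unique hf1 hf2)
  refine ⟨δ, hδ, ?_⟩
  rw [← hδw, ← hpγ, inv_inv, hw]
  group

theorem Base.smul_invol (hb : Base A y t γ) {s δ : G} (hδ : δ ∈ two y)
    (he : t * s * t = (δ * γ * δ⁻¹)⁻¹ * (δ * t * δ⁻¹) * (δ * γ * δ⁻¹)) :
    t • (s • y) = (δ * γ * δ⁻¹)⁻¹ • y := by
  have h1 : (t * s * t) • o A = t • (s • y) := by rw [mul_smul, hb.t_o, mul_smul]
  rw [← h1, he, mul_smul, smul_o_of_mem (conj_mem hδ.1 hb.γ_mem), mul_smul]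
  congr 1
  rw [mul_smul, mul_smul, smul_o.2 (inv_mem hδ.1), hb.t_o]
  exact hδ.2

theorem Base.conj_invol_surj (h : Hyp A) (hb : Base A y t γ) {δ : G} (hδ : δ ∈ two y) :
    ∃ s ∈ A, orderOf s = 2 ∧ t * s * t = (δ * γ * δ⁻¹)⁻¹ * (δ * t * δ⁻¹) * (δ * γ * δ⁻¹) := by
  classical
  choose f hf he using fun s : {s : G // orderOf s = 2 ∧ s ∈ A} => hb.conj_invol h s.2.2 s.2.1
  have hinj : Function.Injective fun s => (⟨f s, hf s⟩ : two y) := by
    intro a b hab
    have hab' : f a = f b := congrArg Subtype.val hab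
    have h1 := he a
    rw [hab', ← he b] at h1
    exact Subtype.ext (mul_left_cancel (mul_right_cancel h1))
  obtain ⟨s, hs⟩ := ((Nat.bijective_iff_injective_and_card _).2
    ⟨hinj, by rw [h.card_invol, h.card_two hb.hy, e]⟩).2 ⟨δ, hδ⟩
  exact ⟨s.1, s.2.2, s.2.1, by rw [← show f s = δ from congrArg Subtype.val hs]; exact he s⟩

/-- The set of points `{o} ∪ X • y`. -/
def orb (A X : Subgroup G) (y : G ⧸ nA A) : Set (G ⧸ nA A) :=
  insert (o A) ((fun a : G => a • y) '' (X : Set G))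

theorem mem_orb {X : Subgroup G} {w : G ⧸ nA A} :
    w ∈ orb A X y ↔ w = o A ∨ ∃ a ∈ X, a • y = w := by
  rw [orb, Set.mem_insert_iff]; rfl

/-- The setwise stabiliser of `orb A X y`. -/
def orbStab (A X : Subgroup G) (y : G ⧸ nA A) : Subgroup G := stabilizer G (orb A X y)

theorem mem_orbStab_of {X : Subgroup G} {g : G} (hg : ∀ w ∈ orb A X y, g • w ∈ orb A X y) :
    g ∈ orbStab A X y := by
  have hsub : g • orb A X y ⊆ orb A X y := by
    rintro _ ⟨w, hw, rfl⟩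
    exact hg w hw
  exact mem_stabilizer_iff.2 (Set.eq_of_subset_of_ncard_le hsub
    (le_of_eq (Set.ncard_image_of_injective _ (MulAction.injective g)).symm) (Set.toFinite _))

theorem orbStab_smul {X : Subgroup G} {g : G} (hg : g ∈ orbStab A X y) {w : G ⧸ nA A}
    (hw : w ∈ orb A X y) : g • w ∈ orb A X y := by
  have h1 : g • orb A X y = orb A X y := mem_stabilizer_iff.1 hg
  rw [← h1]
  exact Set.smul_mem_smul_set hw

theorem le_orbStab {X : Subgroup G} (hXA : X ≤ A) : X ≤ orbStab A X y := fun x hx =>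
  mem_orbStab_of fun w hw => by
    rcases mem_orb.1 hw with rfl | ⟨a, ha, rfl⟩
    · exact mem_orb.2 (Or.inl (smul_o_of_mem (hXA hx)))
    · exact mem_orb.2 (Or.inr ⟨x * a, mul_mem hx ha, mul_smul _ _ _⟩)

theorem two_le_orbStab {X : Subgroup G} (hXi : Inv A X) : two y ≤ orbStab A X y := fun d hd =>
  mem_orbStab_of fun w hw => by
    rcases mem_orb.1 hw with rfl | ⟨a, ha, rfl⟩
    · exact mem_orb.2 (Or.inl (smul_o.2 hd.1))
    · exact mem_orb.2 (Or.inr ⟨d * a * d⁻¹, hXi d hd.1 a ha, two_smul_conj hd a⟩)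

theorem Hyp.mem_of_orbStab (h : Hyp A) (hy : y ≠ o A) {X : Subgroup G} (hXA : X ≤ A) {a : G}
    (ha : a ∈ A) (haL : a ∈ orbStab A X y) : a ∈ X := by
  rcases mem_orb.1 (orbStab_smul haL (mem_orb.2 (Or.inr ⟨1, one_mem _, one_smul _ y⟩))) with
    e' | ⟨x, hx, e'⟩
  · exact absurd e' (h.ne_o_smul hy (le_nA ha))
  · rw [h.eq_of_smul hy ha (hXA hx) e'.symm]; exact hx

/-- Criterion for `t` to preserve `orb A X y`. -/
theorem Base.t_mem_orbStab (h : Hyp A) (hb : Base A y t γ) {X : Subgroup G}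
    (hXi : Inv A X) (hZX : omega A ≤ X) (hγX : γ ∈ X)
    (hcov : ∀ x ∈ X, x ∉ omega A → (∃ δ ∈ two y, x = δ * γ * δ⁻¹) ∨
      (∃ δ ∈ two y, x = (δ * γ * δ⁻¹)⁻¹) ∨
      ∃ δ ∈ two y, ∃ ε ∈ two y, δ ≠ ε ∧ x = δ * γ * δ⁻¹ * (ε * γ * ε⁻¹)⁻¹) :
    t ∈ orbStab A X y := by
  have hΓ : ∀ δ ∈ two y, δ * γ * δ⁻¹ ∈ X := fun δ hδ => hXi δ hδ.1 γ hγX
  refine mem_orbStab_of fun w hw => mem_orb.2 ?_
  rcases mem_orb.1 hw with rfl | ⟨x, hx, rfl⟩
  · exact Or.inr ⟨1, one_mem _, by rw [one_smul, hb.t_o]⟩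
  by_cases hx1 : x = 1
  · exact Or.inl (by rw [hx1, one_smul, hb.t_y])
  right
  by_cases hxZ : x ∈ omega A
  · obtain ⟨δ, hδ, he⟩ := hb.conj_invol h (omega_le hxZ) (h.omega_invol hxZ hx1)
    exact ⟨_, inv_mem (hΓ δ hδ), (hb.smul_invol hδ he).symm⟩
  rcases hcov x hx hxZ with ⟨δ, hδ, rfl⟩ | ⟨δ, hδ, rfl⟩ | ⟨δ, hδ, ε, hε, hne, rfl⟩
  · refine ⟨δ⁻¹ * γ * δ, by simpa using hΓ δ⁻¹ (inv_mem hδ), ?_⟩
    have h1 := two_smul_conj (inv_mem hδ) γ
    rw [inv_inv] at h1
    rw [h1, two_smul_conj hδ, smul_smul t δ, hb.t_conj h hδ, mul_smul, hb.fix]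
  · obtain ⟨s, hs, hso, he⟩ := hb.conj_invol_surj h hδ
    refine ⟨s, hZX (mem_omega_of hs (inv_sq_one hso)), ?_⟩
    rw [← hb.smul_invol hδ he, smul_smul, inv_sq_one hb.t_invol, one_smul]
  · obtain ⟨s₁, hs₁, hso₁, he₁⟩ := hb.conj_invol_surj h hδ
    obtain ⟨s₂, hs₂, hso₂, he₂⟩ := hb.conj_invol_surj h hε
    have hs12 : s₁ ≠ s₂ := by
      rintro rfl
      have h1 := (hb.smul_invol hδ he₁).symm.trans (hb.smul_invol hε he₂)
      have h2 := h.eq_of_smul hb.hy (inv_mem (conj_mem hδ.1 hb.γ_mem))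
        (inv_mem (conj_mem hε.1 hb.γ_mem)) h1
      exact hne (h.conj_inj hb.hy hb.γ_mem hb.γ_ne_one hδ hε (inv_injective h2))
    set s₃ := s₁ * s₂ with hs3
    have hs3Z : s₃ ∈ omega A :=
      mul_mem (mem_omega_of hs₁ (inv_sq_one hso₁)) (mem_omega_of hs₂ (inv_sq_one hso₂))
    have hs31 : s₃ ≠ 1 := fun e' => hs12 (by rw [eq_inv_of_mul_eq_one_left e', inv_eq hso₂])
    obtain ⟨η, hη, he₃⟩ := hb.conj_invol h (omega_le hs3Z) (h.omega_invol hs3Z hs31)
    have h3 := hb.smul_invol hη he₃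
    set a := δ * γ * δ⁻¹ with ha
    set b := ε * γ * ε⁻¹ with hbdef
    set c := η * γ * η⁻¹ with hc
    set w₁ := δ * t * δ⁻¹ with hw₁
    have h4 : t • (s₃ • y) = a⁻¹ • (w₁ • ((a * b⁻¹) • y)) := by
      have : t • (s₃ • y) = (t * s₁ * t) • (t • (s₂ • y)) := by
        simp only [hs3, smul_smul]
        congr 1
        calc t * (s₁ * s₂) = t * s₁ * (t * t) * s₂ := by rw [inv_sq_one hb.t_invol]; group
          _ = _ := by group
      rw [this, hb.smul_invol hε he₂, he₁, smul_smul, smul_smul, smul_smul]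
      congr 1
      simp only [hbdef]
      group
    rw [h3] at h4
    have hw1sq : w₁ * w₁ = 1 := inv_sq_one (by rw [hw₁, orderOf_conj, hb.t_invol])
    have h5 : (a * b⁻¹) • y = w₁ • ((a * c⁻¹) • y) := by
      rw [mul_smul a c⁻¹, h4, smul_inv_smul, smul_smul w₁ w₁, hw1sq, one_smul]
    -- `t` itself
    have h6 : t • ((a * b⁻¹) • y) = ((δ * δ)⁻¹ * (a * c⁻¹) * (δ * δ)) • y := by
      have hdd : δ * δ ∈ two y := mul_mem hδ hδ
      have h7 := two_smul_conj (inv_mem hdd) (a * c⁻¹)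
      rw [inv_inv] at h7
      rw [h7, h5, smul_smul t w₁]
      congr 1
      have hw' : w₁ = δ * δ * t := by
        rw [hw₁, mul_assoc, hb.t_conj h (inv_mem hδ), inv_inv, ← mul_assoc]
      rw [hw', ← mul_assoc, hb.t_conj h hdd, mul_assoc, inv_sq_one hb.t_invol, mul_one]
    refine ⟨(δ * δ)⁻¹ * (a * c⁻¹) * (δ * δ), ?_, h6.symm⟩
    have h8 := hXi _ (inv_mem (mul_mem hδ hδ).1) _ (mul_mem (hΓ δ hδ) (inv_mem (hΓ η hη)))
    rwa [inv_inv] at h8

/-- `γ` is an involution. -/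
theorem Base.γ_sq (h : Hyp A) (hsq : ∀ a ∈ A, a * a ∈ omega A) (hb : Base A y t γ) :
    γ ∈ omega A := by
  classical
  by_contra hγ
  set X := omega A ⊔ conjClosure A γ with hX
  have hXA : X ≤ A := sup_le omega_le (conjClosure_le hb.γ_mem)
  have hXi : Inv A X := h.omega_inv.sup (inv_conjClosure γ)
  have hγX : γ ∈ X := Subgroup.mem_sup_right (self_mem_conjClosure γ)
  have hXc : ∀ a ∈ X, ∀ b ∈ X, a * b = b * a := by
    have h1 : ∀ a ∈ X, ∀ b ∈ omega A, b * a = a * b := fun a ha b hb =>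
      (h.omega_comm hb (hXA ha)).symm
    have h2 : ∀ a ∈ X, ∀ b ∈ conjClosure A γ, b * a = a * b := by
      intro a ha b hbm
      have : X ≤ Subgroup.centralizer ({b} : Set G) := sup_le
        (fun c hc => Subgroup.mem_centralizer_singleton_iff.2
          (h.omega_comm hc (conjClosure_le hb.γ_mem hbm)).symm)
        (fun c hc => Subgroup.mem_centralizer_singleton_iff.2
          (h.conjClosure_comm hb.γ_mem hb.γ_ne_one c hc b hbm))
      exact (Subgroup.mem_centralizer_singleton_iff.1 (this ha)).symm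
    intro a ha b hbm
    have : X ≤ Subgroup.centralizer ({a} : Set G) := sup_le
      (fun c hc => Subgroup.mem_centralizer_singleton_iff.2 (h1 a ha c hc))
      (fun c hc => Subgroup.mem_centralizer_singleton_iff.2 (h2 a ha c hc))
    exact (Subgroup.mem_centralizer_singleton_iff.1 (this hbm)).symm
  letI : CommGroup X :=
    { (inferInstance : Group X) with mul_comm := fun a b => Subtype.ext (hXc _ a.2 _ b.2) }
  -- the endomorphisms
  let f : Option (two y) → X →* X := fun i => match i with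
    | none => 1
    | some d =>
      { toFun := fun x => ⟨(d : G) * x * (d : G)⁻¹, hXi _ d.2.1 _ x.2⟩
        map_one' := Subtype.ext (by show (d : G) * 1 * (d : G)⁻¹ = 1; group)
        map_mul' := fun a b => Subtype.ext (by
          show (d : G) * ((a : G) * b) * (d : G)⁻¹ = (d * a * (d : G)⁻¹) * (d * b * (d : G)⁻¹); group) }
  have hsome : ∀ (d : two y) (x : X), ((f (some d) x : X) : G) = d * x * (d : G)⁻¹ := fun d x => rfl
  have hnone : ∀ x : X, f none x = 1 := fun x => rfl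
  set γ' : X := ⟨γ, hγX⟩
  have hexp : ∀ x : X, x * x * (x * x) = 1 := fun x =>
    Subtype.ext (h.omega_sq (hsq _ (hXA x.2)))
  have hγ2 : γ * γ ≠ 1 := fun e' => hγ (mem_omega_of hb.γ_mem e')
  have hne1 : ∀ d : two y, f (some d) (γ' * γ') ≠ 1 := fun d e' => hγ2
    (conj_eq_one_iff.1 ((hsome d (γ' * γ')).symm.trans (congrArg Subtype.val e')))
  have hcomm : ∀ i j x, f i (f j x) = f j (f i x) := by
    rintro (_ | d) (_ | d') x
    · rfl
    · rw [hnone, hnone, map_one]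
    · rw [hnone, hnone, map_one]
    · refine Subtype.ext ?_
      rw [hsome, hsome, hsome, hsome]
      calc (d : G) * (d' * x * (d' : G)⁻¹) * (d : G)⁻¹
          = ((d : G) * d') * x * ((d : G) * d')⁻¹ := by group
        _ = _ := by rw [h.two_comm hb.hy d.2 d'.2]; group
  have hfree : ∀ i j, f i (γ' * γ') = f j (γ' * γ') → i = j := by
    rintro (_ | d) (_ | d') e'
    · rfl
    · exact absurd e'.symm (hne1 d')
    · exact absurd e' (hne1 d)
    · exact congrArg some (Subtype.ext (h.conj_inj hb.hy (mul_mem hb.γ_mem hb.γ_mem) hγ2 d.2 d'.2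
        (congrArg Subtype.val e')))
  have hinj : ∀ i, f i (γ' * γ') ≠ 1 → ∀ x, f i x = 1 → x = 1 := by
    rintro (_ | d) hi x hx
    · exact absurd (hnone _) hi
    · exact Subtype.ext (conj_eq_one_iff.1 (congrArg Subtype.val hx))
  have hgen : ∀ z : X, z * z = 1 → ∃ i, z = f i (γ' * γ') := by
    intro z hz
    by_cases hz1 : z = 1
    · exact ⟨none, hz1.trans (hnone _).symm⟩
    · obtain ⟨d, hd, hdz⟩ := h.exists_conj hb.hy (mul_mem hb.γ_mem hb.γ_mem)
        (orderOf_two_iff.2 ⟨h.omega_sq (hsq γ hb.γ_mem), hγ2⟩) (hXA z.2)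
        (orderOf_two_iff.2 ⟨congrArg Subtype.val hz, fun e' => hz1 (Subtype.ext e')⟩)
      exact ⟨some ⟨d, hd⟩, Subtype.ext hdz.symm⟩
  have hsqf : ∀ d : two y, ((f (some d) (f (some d) γ') : X) : G) =
      ((d : G) * d) * γ * ((d : G) * d)⁻¹ := fun d => by
    rw [hsome, hsome]; show (d : G) * (d * γ * (d : G)⁻¹) * (d : G)⁻¹ = _; group
  -- `t` preserves the orbit
  have ht : t ∈ orbStab A X y := by
    refine hb.t_mem_orbStab h hXi le_sup_left hγX fun x hx hxZ => ?_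
    obtain ⟨i, j, hij, he⟩ := cover_surj f γ' hcomm hexp hfree hinj hgen ⟨x, hx⟩
      (fun e' => hxZ (mem_omega_of (hXA hx) (congrArg Subtype.val e')))
    have he' : x = _ := congrArg Subtype.val he
    rcases i with _ | d <;> rcases j with _ | d'
    · exact absurd rfl hij
    · rw [hnone, one_mul, Subgroup.coe_inv, hsqf] at he'
      exact Or.inr (Or.inl ⟨_, mul_mem d'.2 d'.2, he'⟩)
    · rw [hnone, inv_one, mul_one, hsqf] at he'
      exact Or.inl ⟨_, mul_mem d.2 d.2, he'⟩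
    · rw [Subgroup.coe_mul, Subgroup.coe_inv, hsqf, hsqf] at he'
      refine Or.inr (Or.inr ⟨_, mul_mem d.2 d.2, _, mul_mem d'.2 d'.2, fun e' => hxZ ?_, he'⟩)
      rw [he', e', mul_inv_cancel]
      exact one_mem _
  -- the stabiliser of the orbit is a group with abelian centralisers of its involutions
  set L := orbStab A X y with hL
  have hXL : X ≤ L := le_orbStab hXA
  have : Fact (Nat.Prime 2) := ⟨Nat.prime_two⟩
  obtain ⟨s₁, s₂, hs₁, hs₂, hso₁, hso₂, hne⟩ := h.two_involutions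
  have hs₁X : s₁ ∈ X := Subgroup.mem_sup_left (mem_omega_of hs₁ (inv_sq_one hso₁))
  have hs₂X : s₂ ∈ X := Subgroup.mem_sup_left (mem_omega_of hs₂ (inv_sq_one hso₂))
  have hcent : ∀ a ∈ X.subgroupOf L, a ≠ 1 →
      Subgroup.centralizer ({a} : Set L) = X.subgroupOf L := by
    intro a ha ha1
    ext g
    rw [Subgroup.mem_centralizer_singleton_iff, Subgroup.mem_subgroupOf]
    constructor
    · intro hg
      exact h.mem_of_orbStab hb.hy hXA (h.mem_of_commute (hXA ha) (fun e' => ha1 (Subtype.ext e'))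
        (congrArg Subtype.val hg)) g.2
    · intro hg
      exact Subtype.ext (hXc _ hg _ ha)
  have hXp : IsPGroup 2 (X.subgroupOf L) := fun x => ⟨2, Subtype.ext (Subtype.ext (by
    show ((x : L) : G) ^ (2 ^ 2) = 1
    have := h.omega_sq (hsq _ (hXA x.2))
    rw [← this, show (2 : ℕ) ^ 2 = 4 by rfl, pow_succ, pow_succ, pow_succ, pow_one, mul_assoc (_ * _)]; rfl))⟩
  obtain ⟨S, hS⟩ := hXp.exists_le_sylow
  have hs₁1 : (⟨s₁, hXL hs₁X⟩ : L) ≠ 1 := fun e' =>
    Basic.ne_one hso₁ (congrArg Subtype.val e')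
  have hSX : (S : Subgroup L) ≤ X.subgroupOf L := by
    have : Nontrivial (S : Subgroup L) :=
      ⟨⟨⟨_, hS (show (⟨s₁, hXL hs₁X⟩ : L) ∈ X.subgroupOf L from hs₁X)⟩, 1,
        fun e' => hs₁1 (congrArg Subtype.val e')⟩⟩
    have := S.2.center_nontrivial
    obtain ⟨⟨⟨c, hcS⟩, hcc⟩, hc1'⟩ := exists_ne (1 : Subgroup.center (S : Subgroup L))
    have hc1 : c ≠ 1 := fun e' => hc1' (Subtype.ext (Subtype.ext e'))
    have hcom : ∀ s ∈ (S : Subgroup L), s * c = c * s := fun s hs =>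
      congrArg Subtype.val (Subgroup.mem_center_iff.1 hcc ⟨s, hs⟩)
    have hcX : c ∈ X.subgroupOf L := by
      rw [← hcent ⟨s₁, hXL hs₁X⟩ hs₁X hs₁1, Subgroup.mem_centralizer_singleton_iff]
      exact (hcom _ (hS (show (⟨s₁, hXL hs₁X⟩ : L) ∈ X.subgroupOf L from hs₁X))).symm
    intro s hs
    rw [← hcent c hcX hc1, Subgroup.mem_centralizer_singleton_iff]
    exact hcom s hs
  have hH : Cfsg.Agent.CTGroup.Hyp (X.subgroupOf L) := by
    refine ⟨hcent, ⟨S, hSX, fun hc => ?_⟩, fun hn => ?_⟩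
    · have := Fintype.ofFinite (S : Subgroup L)
      have hle := IsCyclic.card_pow_eq_one_le (α := (S : Subgroup L)) (n := 2) (by omega)
      let u₁ : (S : Subgroup L) := ⟨⟨s₁, hXL hs₁X⟩, hS hs₁X⟩
      let u₂ : (S : Subgroup L) := ⟨⟨s₂, hXL hs₂X⟩, hS hs₂X⟩
      have hsub : ({1, u₁, u₂} : Finset (S : Subgroup L)) ⊆ Finset.univ.filter (fun a => a ^ 2 = 1) := by
        intro a ha
        simp only [Finset.mem_insert, Finset.mem_singleton] at ha
        simp only [Finset.mem_filter, Finset.mem_univ, true_and]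
        rcases ha with rfl | rfl | rfl
        · exact one_pow _
        · exact Subtype.ext (Subtype.ext (by rw [pow_two]; exact inv_sq_one hso₁))
        · exact Subtype.ext (Subtype.ext (by rw [pow_two]; exact inv_sq_one hso₂))
      have h3 := (Finset.card_le_card hsub).trans hle
      rw [Finset.card_eq_three.2 ⟨1, u₁, u₂,
        fun e' => Basic.ne_one hso₁ (congrArg (fun u : (S : Subgroup L) => ((u : L) : G)) e').symm,
        fun e' => Basic.ne_one hso₂ (congrArg (fun u : (S : Subgroup L) => ((u : L) : G)) e').symm,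
        fun e' => hne (congrArg (fun u : (S : Subgroup L) => ((u : L) : G)) e'), rfl⟩] at h3
      omega
    · have := hn.conj_mem ⟨s₁, hXL hs₁X⟩ hs₁X ⟨t, ht⟩
      have h1 : t * s₁ * t⁻¹ ∈ A := hXA this
      have h2 := h.mem_nA_of_conj hs₁ (Basic.ne_one hso₁) h1
      exact hb.hy (by rw [← hb.t_o, smul_o.2 h2])
  have := hH.sq_eq_one (a := (⟨γ, hXL hγX⟩ : L)) hγX
  exact hγ2 (congrArg Subtype.val this)

end Cfsg.Agent.TICentralizer
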