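/-
The block `{o} ∪ omega A • y` and its stabiliser.
-/
import Cfsg.Agent.TICentralizer.Orbit

set_option autoImplicit false

namespace Cfsg.Agent.TICentralizer

open MulAction Pointwise
open Cfsg.Agent.Involutions
open Cfsg.Agent.Involutions.Basic (inv_eq inv_sq_one orderOf_conj orderOf_two_iff)

variable {G : Type*} [Group G] [Finite G] {A : Subgroup G} {y : G ⧸ nA A} {t γ : G}

theorem Hyp.move_o (h : Hyp A) {y : G ⧸ nA A} (hy : y ≠ o A) (r : G ⧸ nA A) : ∃ g : G, g • o A = r := by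
  by_cases hr : r = o A
  · exact ⟨1, by rw [one_smul, hr]⟩
  obtain ⟨a, ha, hay⟩ := (h.regular hy).2 r hr
  obtain ⟨u, hu, huy, -, -⟩ := h.exists_swap hy
  exact ⟨a * u, by rw [mul_smul, huy, hay]⟩

theorem Hyp.two_trans (h : Hyp A) {y : G ⧸ nA A} (hy : y ≠ o A) {p r : G ⧸ nA A} (hpr : p ≠ r) :
    ∃ g : G, g • o A = p ∧ g • y = r := by
  obtain ⟨g, hg⟩ := h.move_o hy p
  obtain ⟨a, ha, hay⟩ := (h.regular hy).2 (g⁻¹ • r) (fun e' => hpr (by
    rw [← hg, ← e', smul_inv_smul]))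
  exact ⟨g * a, by rw [mul_smul, smul_o_of_mem ha, hg], by rw [mul_smul, hay, smul_inv_smul]⟩

/-- An element exchanging two points is an involution with a fixed point. -/
theorem Base.exchange_any (h : Hyp A) (hb : Base A y t γ) {g : G} {p r : G ⧸ nA A} (hpr : p ≠ r)
    (h1 : g • p = r) (h2 : g • r = p) : orderOf g = 2 ∧ ∃ c : G ⧸ nA A, g • c = c := by
  obtain ⟨k, hk1, hk2⟩ := h.two_trans hb.hy hpr
  obtain ⟨δ, hδ, hw⟩ := hb.exchange h (w := k⁻¹ * g * k)
    (by rw [mul_smul, hk1, mul_smul, h1, ← hk2, inv_smul_smul])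
    (by rw [mul_smul, hk2, mul_smul, h2, ← hk1, inv_smul_smul])
  have ho : orderOf g = 2 := by
    have he : g = (k * δ) * t * (k * δ)⁻¹ := by
      calc g = k * (k⁻¹ * g * k) * k⁻¹ := by group
        _ = _ := by rw [hw]; group
    rw [he, orderOf_conj, hb.t_invol]
  exact ⟨ho, (StronglyEmbedded.existsUnique_fixed h.stronglyEmbedded ho).exists⟩

theorem Hyp.eq_one_of_fix_three (h : Hyp A) {g : G} {a b c : G ⧸ nA A} (hab : a ≠ b) (hbc : b ≠ c)
    (hac : a ≠ c) (ha : g • a = a) (hb : g • b = b) (hc : g • c = c) : g = 1 :=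
  h.zassenhaus.2.2.1 g a b c hab hbc hac ha hb hc

/-- The data: the block is invariant under `t`. -/
structure Blk (A : Subgroup G) (y : G ⧸ nA A) (t γ : G) : Prop extends Base A y t γ where
  γ_omega : γ ∈ omega A
  t_mem : t ∈ orbStab A (omega A) y

theorem Base.toBlk (h : Hyp A) (hb : Base A y t γ) (hsq : ∀ a ∈ A, a * a ∈ omega A) : Blk A y t γ :=
  ⟨hb, hb.γ_sq h hsq, hb.t_mem_orbStab h h.omega_inv le_rfl (hb.γ_sq h hsq)
    fun x hx hx' => absurd hx hx'⟩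

/-- The block. -/
def blk (A : Subgroup G) (y : G ⧸ nA A) : Set (G ⧸ nA A) := orb A (omega A) y

/-- Its stabiliser. -/
def bStab (A : Subgroup G) (y : G ⧸ nA A) : Subgroup G := orbStab A (omega A) y

theorem o_mem_blk : o A ∈ blk A y := mem_orb.2 (Or.inl rfl)

theorem y_mem_blk : y ∈ blk A y := mem_orb.2 (Or.inr ⟨1, one_mem _, one_smul _ _⟩)

theorem smul_mem_blk {g : G} (hg : g ∈ bStab A y) {w : G ⧸ nA A} (hw : w ∈ blk A y) : g • w ∈ blk A y :=
  orbStab_smul hg hw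

theorem omega_le_bStab : omega A ≤ bStab A y := le_orbStab omega_le

theorem Hyp.two_le_bStab (h : Hyp A) : two y ≤ bStab A y := two_le_orbStab h.omega_inv

theorem Blk.trans_blk (h : Hyp A) (hb : Blk A y t γ) {p r : G ⧸ nA A} (hp : p ∈ blk A y)
    (hr : r ∈ blk A y) (hpr : p ≠ r) : ∃ l ∈ bStab A y, l • o A = p ∧ l • y = r := by
  have hone : ∀ p ∈ blk A y, ∃ l ∈ bStab A y, l • o A = p := by
    intro p hp
    rcases mem_orb.1 hp with rfl | ⟨z, hz, rfl⟩
    · exact ⟨1, one_mem _, one_smul _ _⟩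
    · exact ⟨z * t, mul_mem (omega_le_bStab hz) hb.t_mem, by rw [mul_smul, hb.t_o]⟩
  obtain ⟨l, hl, hlo⟩ := hone p hp
  have hr' : l⁻¹ • r ∈ blk A y := smul_mem_blk (inv_mem hl) hr
  rcases mem_orb.1 hr' with e' | ⟨z, hz, e'⟩
  · exact absurd (by rw [← hlo, ← e', smul_inv_smul]) hpr
  · exact ⟨l * z, mul_mem hl (omega_le_bStab hz), by rw [mul_smul, smul_o_of_mem (omega_le hz), hlo],
      by rw [mul_smul, e', smul_inv_smul]⟩

/-- Two translates of the block with two common points coincide. -/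
theorem Blk.mem_bStab_of (h : Hyp A) (hb : Blk A y t γ) {g : G} {p r : G ⧸ nA A} (hpr : p ≠ r)
    (hp : p ∈ blk A y) (hr : r ∈ blk A y) (hgp : g⁻¹ • p ∈ blk A y) (hgr : g⁻¹ • r ∈ blk A y) :
    g ∈ bStab A y := by
  obtain ⟨l, hl, hl1, hl2⟩ := hb.trans_blk h hp hr hpr
  obtain ⟨k, hk, hk1, hk2⟩ := hb.trans_blk h hgp hgr (fun e' => hpr (smul_left_cancel _ e'))
  have hm : l⁻¹ * g * k ∈ bStab A y := h.two_le_bStab (mem_two.2
    ⟨smul_o.1 (by rw [mul_smul, hk1, mul_smul, smul_inv_smul, ← hl1, inv_smul_smul]),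
      by rw [mul_smul, hk2, mul_smul, smul_inv_smul, ← hl2, inv_smul_smul]⟩)
  have := mul_mem (mul_mem hl hm) (inv_mem hk)
  simpa [mul_assoc] using this

theorem Blk.invol_mem (h : Hyp A) (hb : Blk A y t γ) {v : G} (hv : orderOf v = 2) {p : G ⧸ nA A}
    (hp : p ∈ blk A y) (hvp : v • p = p) : v ∈ bStab A y := by
  obtain ⟨r, hr, hpr⟩ : ∃ r ∈ blk A y, p ≠ r := by
    by_cases e' : p = o A
    · exact ⟨y, y_mem_blk, fun e2 => hb.hy (e2 ▸ e')⟩
    · exact ⟨o A, o_mem_blk, e'⟩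
  obtain ⟨l, hl, hl1, -⟩ := hb.trans_blk h hp hr hpr
  have hw : l⁻¹ * v * l ∈ nA A := smul_o.1 (by rw [mul_smul, hl1, mul_smul, hvp, ← hl1, inv_smul_smul])
  have hwo : orderOf (l⁻¹ * v * l) = 2 := by
    have : l⁻¹ * v * l = l⁻¹ * v * (l⁻¹)⁻¹ := by rw [inv_inv]
    rw [this, orderOf_conj, hv]
  have := mul_mem (mul_mem hl (omega_le_bStab (y := y)
    (mem_omega_of (h.invol_mem hw hwo) (inv_sq_one hwo)))) (inv_mem hl)
  simpa [mul_assoc] using this

theorem Blk.swap_fixed (h : Hyp A) (hb : Blk A y t γ) {g : G} {p r : G ⧸ nA A} (hp : p ∈ blk A y)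
    (hr : r ∈ blk A y) (hpr : p ≠ r) (h1 : g • p = r) (h2 : g • r = p) :
    ∃ c ∈ blk A y, g • c = c := by
  obtain ⟨l, hl, hl1, hl2⟩ := hb.trans_blk h hp hr hpr
  obtain ⟨δ, hδ, hw⟩ := hb.exchange h (w := l⁻¹ * g * l)
    (by rw [mul_smul, hl1, mul_smul, h1, ← hl2, inv_smul_smul])
    (by rw [mul_smul, hl2, mul_smul, h2, ← hl1, inv_smul_smul])
  have hg : g = l * (δ * t * δ⁻¹) * l⁻¹ := by rw [← hw]; group
  refine ⟨l • ((δ * γ * δ⁻¹) • y),
    smul_mem_blk hl (mem_orb.2 (Or.inr ⟨_, h.omega_inv δ hδ.1 γ hb.γ_omega, rfl⟩)), ?_⟩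
  rw [hg, mul_smul, inv_smul_smul, mul_smul, hb.exchange_fix hδ]

theorem Blk.invol_fixed (h : Hyp A) (hb : Blk A y t γ) {v : G} (hv : orderOf v = 2)
    (hvL : v ∈ bStab A y) : ∃ c ∈ blk A y, v • c = c := by
  by_cases hvo : v • o A = o A
  · exact ⟨_, o_mem_blk, hvo⟩
  · exact hb.swap_fixed h o_mem_blk (smul_mem_blk hvL o_mem_blk) (Ne.symm hvo) rfl
      (by rw [smul_smul, inv_sq_one hv, one_smul])

theorem Hyp.card_blk (h : Hyp A) (hy : y ≠ o A) : Nat.card (blk A y) = e A + 2 := by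
  rw [Nat.card_coe_set_eq, blk, orb, Set.ncard_insert_of_notMem ?_ (Set.toFinite _),
    Set.ncard_image_of_injOn ?_, ← Nat.card_coe_set_eq]
  · change Nat.card (omega A) + 1 = _
    rw [h.card_omega]
  · exact fun a ha b hb => h.eq_of_smul hy (omega_le ha) (omega_le hb)
  · rintro ⟨a, ha, e'⟩
    exact h.ne_o_smul hy (le_nA (omega_le ha)) e'

theorem Blk.stab_card (h : Hyp A) (hb : Blk A y t γ) :
    Nat.card (bStab A y) = (e A + 2) * ((e A + 1) * e A) := by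
  classical
  let S := {g : bStab A y // (g : G) • o A = o A}
  have hS : Nat.card S = (e A + 1) * e A := by
    rw [← h.card_omega, show e A = Nat.card (two y) from (h.card_two hb.hy).symm, ← Nat.card_prod]
    refine (Nat.card_eq_of_bijective (fun p : omega A × two y =>
      (⟨⟨(p.2 : G) * p.1, mul_mem (h.two_le_bStab p.2.2) (omega_le_bStab p.1.2)⟩,
        smul_o.2 (mul_mem p.2.2.1 (le_nA (omega_le p.1.2)))⟩ : S)) ⟨?_, ?_⟩).symm
    · rintro ⟨z, d⟩ ⟨z', d'⟩ e'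
      have e2 : (d : G) * z = d' * z' := congrArg (fun s : S => ((s.1 : bStab A y) : G)) e'
      have e3 : (d' : G)⁻¹ * d = z' * (z : G)⁻¹ := by
        rw [eq_mul_inv_iff_mul_eq, mul_assoc, e2, inv_mul_cancel_left]
      have e4 := h.two_inf hb.hy (mul_mem (inv_mem d'.2) d.2)
        (e3 ▸ omega_le (mul_mem z'.2 (inv_mem z.2)))
      rw [e4] at e3
      exact Prod.ext (Subtype.ext (mul_inv_eq_one.1 e3.symm).symm) (Subtype.ext (inv_mul_eq_one.1 e4).symm)
    · rintro ⟨⟨g, hg⟩, hgo⟩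
      obtain ⟨d, hd, a, ha, rfl⟩ := h.factor hb.hy (smul_o.1 hgo)
      have ha' : a ∈ omega A := h.mem_of_orbStab hb.hy omega_le ha
        (show a ∈ bStab A y by simpa using mul_mem (inv_mem (h.two_le_bStab hd)) hg)
      exact ⟨(⟨a, ha'⟩, ⟨d, hd⟩), rfl⟩
  rw [← h.card_blk hb.hy, ← hS, ← Nat.card_prod]
  have hlift : ∀ p : blk A y, ∃ l ∈ bStab A y, l • o A = (p : G ⧸ nA A) := by
    rintro ⟨p, hp⟩
    by_cases e' : p = o A
    · exact ⟨1, one_mem _, (one_smul _ _).trans e'.symm⟩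
    · obtain ⟨l, hl, hl1, -⟩ := hb.trans_blk h hp o_mem_blk e'
      exact ⟨l, hl, hl1⟩
  choose l hl hlo using hlift
  refine (Nat.card_eq_of_bijective (fun q : blk A y × S =>
    (⟨l q.1 * ((q.2.1 : bStab A y) : G), mul_mem (hl _) q.2.1.2⟩ : bStab A y)) ⟨?_, ?_⟩).symm
  · rintro ⟨p, s⟩ ⟨p', s'⟩ e'
    have e2 : l p * ((s.1 : bStab A y) : G) = l p' * ((s'.1 : bStab A y) : G) := congrArg Subtype.val e'
    have hpp : p = p' := by
      have := congrArg (fun g : G => g • o A) e2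
      simp only [mul_smul, s.2, s'.2, hlo] at this
      exact Subtype.ext this
    subst hpp
    exact Prod.ext rfl (Subtype.ext (Subtype.ext (mul_left_cancel e2)))
  · intro g
    let p : blk A y := ⟨(g : G) • o A, smul_mem_blk g.2 o_mem_blk⟩
    refine ⟨(p, ⟨⟨(l p)⁻¹ * g, mul_mem (inv_mem (hl p)) g.2⟩, ?_⟩),
      Subtype.ext (mul_inv_cancel_left _ _)⟩
    show ((l p)⁻¹ * (g : G)) • o A = o A
    rw [mul_smul, inv_smul_eq_iff, hlo]

/-- Fixed-point-free elements of the stabiliser of the block. -/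
def IsY (A : Subgroup G) (y : G ⧸ nA A) (g : G) : Prop :=
  g ∈ bStab A y ∧ ∀ p ∈ blk A y, g • p ≠ p

/-- Such an element is inverted by an involution at each point of the block. -/
theorem Blk.inverter (h : Hyp A) (hb : Blk A y t γ) {g : G} (hg : IsY A y g) {p : G ⧸ nA A}
    (hp : p ∈ blk A y) : ∃ v, orderOf v = 2 ∧ v • p = p ∧ v * g * v⁻¹ = g⁻¹ := by
  obtain ⟨l, hl, hl1, -⟩ := hb.trans_blk h hp (smul_mem_blk hg.1 hp) (Ne.symm (hg.2 p hp))
  set g' := l⁻¹ * g * l with hg'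
  have hg'L : g' ∈ bStab A y := mul_mem (mul_mem (inv_mem hl) hg.1) hl
  have hg'f : ∀ w ∈ blk A y, g' • w ≠ w := fun w hw e' => hg.2 (l • w) (smul_mem_blk hl hw) (by
    rw [hg', mul_smul, mul_smul, inv_smul_eq_iff] at e'
    exact e')
  have ha : g' • o A ≠ o A := hg'f _ o_mem_blk
  have hb' : g'⁻¹ • o A ≠ o A := fun e' => ha (by
    conv_lhs => rw [← e']
    rw [smul_inv_smul])
  rcases mem_orb.1 (smul_mem_blk hg'L o_mem_blk) with e' | ⟨za, hza, hza'⟩
  · exact absurd e' ha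
  rcases mem_orb.1 (smul_mem_blk (inv_mem hg'L) o_mem_blk) with e' | ⟨zb, hzb, hzb'⟩
  · exact absurd e' hb'
  have hne : za ≠ zb := fun e' => by
    rw [e', hzb'] at hza'
    obtain ⟨c, hc, hcf⟩ := hb.swap_fixed h o_mem_blk (smul_mem_blk hg'L o_mem_blk) (Ne.symm ha) rfl
      (by rw [← hza', smul_inv_smul])
    exact hg'f c hc hcf
  set z := zb * za⁻¹ with hz
  have hzZ : z ∈ omega A := mul_mem hzb (inv_mem hza)
  have hz1 : z ≠ 1 := fun e' => hne (mul_inv_eq_one.1 e').symm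
  have hzo := h.omega_invol hzZ hz1
  have hu1 : (z * g') • o A = g'⁻¹ • o A := by
    rw [mul_smul, ← hza', hz, mul_smul, inv_smul_smul, hzb']
  have hu2 : (z * g') • (g'⁻¹ • o A) = o A := by
    rw [mul_smul, smul_inv_smul, smul_o_of_mem (omega_le hzZ)]
  have hu := (hb.exchange_any h (Ne.symm hb') hu1 hu2).1
  have hrel : z * g' * z⁻¹ = g'⁻¹ := by
    have h1 := inv_sq_one hu
    rw [inv_eq hzo]
    exact eq_inv_of_mul_eq_one_left (by rw [← h1]; group)
  refine ⟨l * z * l⁻¹, by rw [orderOf_conj, hzo], ?_, ?_⟩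
  · rw [← hl1, mul_smul, inv_smul_smul, mul_smul, smul_o_of_mem (omega_le hzZ)]
  · calc l * z * l⁻¹ * g * (l * z * l⁻¹)⁻¹ = l * (z * g' * z⁻¹) * l⁻¹ := by rw [hg']; group
      _ = g⁻¹ := by rw [hrel, hg']; group

/-- A fixed-point-free element of the stabiliser of the block has no fixed point at all. -/
theorem Blk.no_fixed (h : Hyp A) (hb : Blk A y t γ) {g : G} (hg : IsY A y g) (r : G ⧸ nA A) :
    g • r ≠ r := by
  classical
  intro hr
  have hrB : r ∉ blk A y := fun hrB => hg.2 r hrB hr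
  have hg1 : g ≠ 1 := fun e' => hg.2 _ o_mem_blk (by rw [e', one_smul])
  choose v hvo hvp hvg using fun p : blk A y => hb.inverter h hg p.2
  have hfix : ∀ p, g • (v p • r) = v p • r := fun p => by
    have h1 : g * v p = v p * g⁻¹ := by
      rw [← hvg p, inv_eq (hvo p), ← mul_assoc, ← mul_assoc, inv_sq_one (hvo p), one_mul]
    rw [smul_smul, h1, mul_smul, inv_smul_eq_iff.2 hr.symm]
  have hne : ∀ p, v p • r ≠ r := fun p e' => hrB (by
    rw [(StronglyEmbedded.existsUnique_fixed h.stronglyEmbedded (hvo p)).unique e' (hvp p)]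
    exact p.2)
  let p₀ : blk A y := ⟨o A, o_mem_blk⟩
  have hall : ∀ p, v p • r = v p₀ • r := fun p => by
    by_contra hne'
    exact hg1 (h.eq_one_of_fix_three (Ne.symm (hne p)) hne' (Ne.symm (hne p₀)) hr (hfix p) (hfix p₀))
  have hcard := StronglyEmbedded.card_swap h.stronglyEmbedded r (v p₀ • r) (Ne.symm (hne p₀))
  let φ : blk A y → {i : G // orderOf i = 2 ∧ i • r = v p₀ • r} := fun p => ⟨v p, hvo p, hall p⟩
  have hinj : Function.Injective φ := fun p p' e' => by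
    have e2 : v p = v p' := congrArg Subtype.val e'
    exact Subtype.ext ((StronglyEmbedded.existsUnique_fixed h.stronglyEmbedded (hvo p)).unique (hvp p)
      (e2 ▸ hvp p'))
  have h1 := Nat.card_le_card_of_injective φ hinj
  rw [hcard, h.card_blk hb.hy, Nat.card_congr (Equiv.subtypeEquivRight (p := fun i : G => orderOf i = 2 ∧ i ∈ nA A)
    (q := fun i : G => orderOf i = 2 ∧ i ∈ A) fun i =>
    ⟨fun hi => ⟨hi.1, h.invol_mem hi.2 hi.1⟩, fun hi => ⟨hi.1, le_nA hi.2⟩⟩), h.card_invol] at h1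
  omega

end Cfsg.Agent.TICentralizer
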