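/-
The centraliser of a fixed-point-free element of the stabiliser of the block lies in that stabiliser.
-/
import Cfsg.Agent.TICentralizer.Block

set_option autoImplicit false

namespace Cfsg.Agent.TICentralizer

open MulAction Pointwise
open Cfsg.Agent.Involutions
open Cfsg.Agent.Involutions.Basic (inv_eq inv_sq_one orderOf_conj orderOf_two_iff)

variable {G : Type*} [Group G] [Finite G] {A : Subgroup G} {y : G ⧸ nA A} {t γ : G}

/-- `g` fixes no point. -/
def NoFix (A : Subgroup G) (g : G) : Prop := ∀ r : G ⧸ nA A, g • r ≠ r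

theorem NoFix.ne_one {g : G} (hg : NoFix A g) : g ≠ 1 := fun e' => hg (o A) (by rw [e', one_smul])

theorem NoFix.conj {g : G} (hg : NoFix A g) (a : G) : NoFix A (a * g * a⁻¹) := fun r e' =>
  hg (a⁻¹ • r) (by rw [mul_smul, mul_smul] at e'; exact eq_inv_smul_iff.2 e')

theorem Base.cent_noFix (h : Hyp A) (hb : Base A y t γ) {g w : G} (hg : NoFix A g)
    (hw : w * g = g * w) (hw1 : w ≠ 1) : NoFix A w := by
  intro r hr
  have h1 : ∀ r : G ⧸ nA A, w • r = r → w • (g • r) = g • r := fun r hr => by rw [smul_smul, hw, mul_smul, hr]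
  have hne : g • g • r ≠ r := fun e' => by
    obtain ⟨c, hc⟩ := (hb.exchange_any h (Ne.symm (hg r)) rfl e').2
    exact hg c hc
  exact hw1 (h.eq_one_of_fix_three (Ne.symm (hg r)) (Ne.symm (hg (g • r))) (Ne.symm hne) hr (h1 r hr)
    (h1 _ (h1 r hr)))

/-- An involution inverting a fixed-point-free element inverts its centraliser. -/
theorem Base.inverts_cent (h : Hyp A) (hb : Base A y t γ) {g v : G} (hg : NoFix A g)
    (hv : orderOf v = 2) (hvg : v * g * v⁻¹ = g⁻¹) {w : G} (hw : w * g = g * w) :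
    v * w * v⁻¹ = w⁻¹ := by
  obtain ⟨c, hc, -⟩ := StronglyEmbedded.existsUnique_fixed h.stronglyEmbedded hv
  have hnorm : ∀ w : G, w * g = g * w → v * w * v⁻¹ * g = g * (v * w * v⁻¹) := by
    intro w hw
    have h1 : v * g⁻¹ * v⁻¹ = g := by rw [← inv_inj, mul_inv_rev, mul_inv_rev, inv_inv, inv_inv, ← mul_assoc, hvg]
    have h2 : w * g⁻¹ = g⁻¹ * w := (Commute.inv_right (show Commute w g from hw)).eq
    calc v * w * v⁻¹ * g = v * w * v⁻¹ * (v * g⁻¹ * v⁻¹) := by rw [h1]
      _ = v * (w * g⁻¹) * v⁻¹ := by group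
      _ = v * (g⁻¹ * w) * v⁻¹ := by rw [h2]
      _ = (v * g⁻¹ * v⁻¹) * (v * w * v⁻¹) := by group
      _ = g * (v * w * v⁻¹) := by rw [h1]
  let C := Subgroup.centralizer ({g} : Set G)
  have hmem : ∀ x : C, (x : G)⁻¹ * (v * x * v⁻¹) ∈ C := fun x => mul_mem (inv_mem x.2)
    (Subgroup.mem_centralizer_singleton_iff.2 (hnorm x (Subgroup.mem_centralizer_singleton_iff.1 x.2)))
  let f : C → C := fun x => ⟨(x : G)⁻¹ * (v * x * v⁻¹), hmem x⟩
  have hinj : Function.Injective f := by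
    rintro ⟨a, ha⟩ ⟨b, hb'⟩ e'
    have e2 : a⁻¹ * (v * a * v⁻¹) = b⁻¹ * (v * b * v⁻¹) := congrArg Subtype.val e'
    have hcm : v * (b * a⁻¹) = b * a⁻¹ * v := by
      rw [← mul_inv_eq_iff_eq_mul]
      calc v * (b * a⁻¹) * v⁻¹ = b * (b⁻¹ * (v * b * v⁻¹)) * (v * a * v⁻¹)⁻¹ := by group
        _ = b * (a⁻¹ * (v * a * v⁻¹)) * (v * a * v⁻¹)⁻¹ := by rw [e2]
        _ = b * a⁻¹ := by group
    by_contra hne
    refine hb.cent_noFix h hg (Subgroup.mem_centralizer_singleton_iff.1 (mul_mem hb' (inv_mem ha)))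
      (fun e1 => hne (Subtype.ext (mul_inv_eq_one.1 e1).symm)) c ?_
    exact (StronglyEmbedded.existsUnique_fixed h.stronglyEmbedded hv).unique
      (by rw [smul_smul, hcm, mul_smul, hc]) hc
  obtain ⟨⟨x, hx⟩, hfx⟩ :=
    (Finite.injective_iff_surjective.1 hinj) ⟨w, Subgroup.mem_centralizer_singleton_iff.2 hw⟩
  have e2 : x⁻¹ * (v * x * v⁻¹) = w := congrArg Subtype.val hfx
  rw [← e2, inv_eq hv]
  calc v * (x⁻¹ * (v * x * v)) * v = v * x⁻¹ * v * x * (v * v) := by group
    _ = (x⁻¹ * (v * x * v))⁻¹ := by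
      rw [inv_sq_one hv, mul_one, mul_inv_rev, inv_inv, mul_inv_rev, mul_inv_rev, inv_eq hv, ← mul_assoc]

theorem Base.cent_comm (h : Hyp A) (hb : Base A y t γ) {g v : G} (hg : NoFix A g)
    (hv : orderOf v = 2) (hvg : v * g * v⁻¹ = g⁻¹) {x w : G} (hx : x * g = g * x)
    (hw : w * g = g * w) : x * w = w * x := by
  have h1 := hb.inverts_cent h hg hv hvg hx
  have h2 := hb.inverts_cent h hg hv hvg hw
  have h3 := hb.inverts_cent h hg hv hvg (w := x * w) (by rw [mul_assoc, hw, ← mul_assoc, hx, mul_assoc])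
  rw [← conj_mul, h1, h2, mul_inv_rev] at h3
  have := congrArg (fun u => u⁻¹) h3
  simpa [mul_inv_rev] using this.symm

/-- Commuting with `g` is transitive on the nontrivial elements of its centraliser. -/
theorem Base.cent_trans (h : Hyp A) (hb : Base A y t γ) {g v : G} (hg : NoFix A g)
    (hv : orderOf v = 2) (hvg : v * g * v⁻¹ = g⁻¹) {c w : G} (hc : c * g = g * c) (hc1 : c ≠ 1)
    (hw : w * c = c * w) : w * g = g * w :=
  hb.cent_comm h (hb.cent_noFix h hg hc hc1) hv (hb.inverts_cent h hg hv hvg hc) hw hc.symm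

theorem Blk.noFix (h : Hyp A) (hb : Blk A y t γ) {g : G} (hg : IsY A y g) : NoFix A g :=
  hb.no_fixed h hg

/-- The torus in the stabiliser of the block. -/
def torus (A : Subgroup G) (y : G ⧸ nA A) (g : G) : Subgroup G :=
  Subgroup.centralizer ({g} : Set G) ⊓ bStab A y

theorem mem_torus {g w : G} : w ∈ torus A y g ↔ w * g = g * w ∧ w ∈ bStab A y := by
  rw [torus, Subgroup.mem_inf, Subgroup.mem_centralizer_singleton_iff]

theorem mul_invol_of_inverts {v x : G} (hv : orderOf v = 2) (h : v * x * v⁻¹ = x⁻¹) (hx : v * x ≠ 1) :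
    orderOf (v * x) = 2 := by
  refine orderOf_two_iff.2 ⟨?_, hx⟩
  rw [inv_eq hv] at h
  calc v * x * (v * x) = v * x * v * x := by group
    _ = 1 := by rw [h, inv_mul_cancel]

/-- Elements of the centraliser of `g` correspond injectively to points. -/
theorem Base.point_inj (h : Hyp A) (hb : Base A y t γ) {g v a b : G} (hg : NoFix A g)
    (hv : orderOf v = 2) (hvg : v * g * v⁻¹ = g⁻¹) (ha : a * g = g * a) (hb' : b * g = g * b)
    {c : G ⧸ nA A} (hac : (v * a) • c = c) (hbc : (v * b) • c = c) : a = b := by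
  by_contra hne
  have h1 : (a⁻¹ * b) • c = c := by
    have e2 : a • c = b • c := smul_left_cancel v (by rw [← mul_smul, ← mul_smul, hac, hbc])
    rw [mul_smul, ← e2, inv_smul_smul]
  exact hb.cent_noFix h hg (Commute.mul_left (Commute.inv_left (show Commute a g from ha)) hb').eq
    (fun e' => hne (inv_mul_eq_one.1 e')) c h1

theorem Base.vx_invol (h : Hyp A) (hb : Base A y t γ) {g v a : G} (hg : NoFix A g)
    (hv : orderOf v = 2) (hvg : v * g * v⁻¹ = g⁻¹) (ha : a * g = g * a) : orderOf (v * a) = 2 := by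
  refine mul_invol_of_inverts hv (hb.inverts_cent h hg hv hvg ha) fun e' => ?_
  have hav : a = v := by rw [← inv_eq hv]; exact eq_inv_of_mul_eq_one_right e'
  obtain ⟨c, hc, -⟩ := StronglyEmbedded.existsUnique_fixed h.stronglyEmbedded hv
  exact hb.cent_noFix h hg ha (fun e1 => Basic.ne_one hv (hav.symm.trans e1)) c (hav ▸ hc)

theorem Blk.card_torus (h : Hyp A) (hb : Blk A y t γ) {g v : G} (hg : IsY A y g)
    (hv : orderOf v = 2) (hvL : v ∈ bStab A y) (hvg : v * g * v⁻¹ = g⁻¹) :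
    Nat.card (torus A y g) = e A + 2 := by
  have hgf := hb.noFix h hg
  rw [← h.card_blk hb.hy]
  have hfix : ∀ c : torus A y g, ∃ p ∈ blk A y, (v * (c : G)) • p = p := fun c =>
    hb.invol_fixed h (hb.vx_invol h hgf hv hvg (mem_torus.1 c.2).1) (mul_mem hvL (mem_torus.1 c.2).2)
  choose φ hφ hφv using hfix
  refine Nat.card_eq_of_bijective (fun c => (⟨φ c, hφ c⟩ : blk A y)) ⟨?_, ?_⟩
  · intro a b e'
    have e2 : φ a = φ b := congrArg Subtype.val e'
    exact Subtype.ext (hb.point_inj h hgf hv hvg (mem_torus.1 a.2).1 (mem_torus.1 b.2).1 (hφv a)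
      (e2 ▸ hφv b))
  · rintro ⟨p, hp⟩
    obtain ⟨u, hu, hup, hug⟩ := hb.inverter h hg hp
    have hcm : v * u * g = g * (v * u) := by
      have e1 : u * g = g⁻¹ * u := mul_inv_eq_iff_eq_mul.1 hug
      have e2 : v * g⁻¹ = g * v := by
        have := mul_inv_eq_iff_eq_mul.1 hvg
        calc v * g⁻¹ = g * (g⁻¹ * v) * g⁻¹ := by group
          _ = g * v := by rw [← this]; group
      rw [mul_assoc, e1, ← mul_assoc, e2, mul_assoc]
    let c : torus A y g := ⟨v * u, mem_torus.2 ⟨hcm, mul_mem hvL (hb.invol_mem h hu hp hup)⟩⟩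
    refine ⟨c, Subtype.ext ?_⟩
    show φ c = p
    have h1 : (v * (c : G)) = u := by
      show v * (v * u) = u
      rw [← mul_assoc, inv_sq_one hv, one_mul]
    exact (StronglyEmbedded.existsUnique_fixed h.stronglyEmbedded hu).unique (h1 ▸ hφv c) hup

/-- Two tori inverted by the same involution of `omega A` are conjugate under `omega A`. -/
theorem Blk.conj_torus (h : Hyp A) (hb : Blk A y t γ) {g g' v : G} (hg : IsY A y g) (hg' : IsY A y g')
    (hv : orderOf v = 2) (hvA : v ∈ A) (hvg : v * g * v⁻¹ = g⁻¹) (hvg' : v * g' * v⁻¹ = g'⁻¹) :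
    ∃ l ∈ omega A, ∀ w : G, w * g = g * w → l * w * l⁻¹ * g' = g' * (l * w * l⁻¹) := by
  classical
  have hgf := hb.noFix h hg
  have hgf' := hb.noFix h hg'
  have hvL : v ∈ bStab A y := omega_le_bStab (mem_omega_of hvA (inv_sq_one hv))
  have hc1 := hb.card_torus h hg hv hvL hvg
  have hc2 := hb.card_torus h hg' hv hvL hvg'
  obtain ⟨p, hp, hpd⟩ := Nat.exists_prime_and_dvd (show e A + 2 ≠ 1 by omega)
  have : Fact p.Prime := ⟨hp⟩
  set L := bStab A y with hLdef
  have hLc := hb.stab_card h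
  have hco : Nat.Coprime p ((e A + 1) * e A) := by
    refine (hp.coprime_iff_not_dvd).2 fun hd => ?_
    rcases hp.dvd_mul.1 hd with h1 | h1
    · have := Nat.dvd_sub hpd h1
      rw [show e A + 2 - (e A + 1) = 1 by omega] at this
      exact hp.one_lt.ne' (Nat.dvd_one.1 this)
    · have h2 := Nat.dvd_sub hpd h1
      rw [show e A + 2 - e A = 2 by omega] at h2
      have h3 : p = 2 := (Nat.prime_dvd_prime_iff_eq hp Nat.prime_two).1 h2
      subst h3
      exact Nat.not_even_iff_odd.2 h.e_odd (even_iff_two_dvd.2 h1)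
  have hfac : (Nat.card L).factorization p = (e A + 2).factorization p := by
    have hne : (e A + 1) * e A ≠ 0 := by
      obtain ⟨r, hr⟩ := h.e_odd
      rw [hr]
      positivity
    rw [hLc, Nat.factorization_mul (by omega) hne, Finsupp.add_apply,
      Nat.factorization_eq_zero_of_not_dvd ((hp.coprime_iff_not_dvd).1 hco) , add_zero]
  -- Sylow subgroups of `L` inside the two tori
  have hsyl : ∀ (S : Subgroup G), S ≤ L → Nat.card S = e A + 2 →
      ∃ R : Sylow p L, (R : Subgroup L) ≤ S.subgroupOf L := by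
    intro S hS hScard
    let P₀ : Sylow p (S.subgroupOf L) := default
    have hcard : Nat.card ((P₀ : Subgroup (S.subgroupOf L)).map (S.subgroupOf L).subtype) =
        p ^ (Nat.card L).factorization p := by
      rw [Subgroup.card_map_of_injective (S.subgroupOf L).subtype_injective, P₀.card_eq_multiplicity,
        Nat.card_congr (Subgroup.subgroupOfEquivOfLe hS).toEquiv, hScard, hfac]
    exact ⟨Sylow.ofCard _ hcard, (Subgroup.map_subtype_le _)⟩
  obtain ⟨R, hR⟩ := hsyl (torus A y g) inf_le_right hc1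
  obtain ⟨R', hR'⟩ := hsyl (torus A y g') inf_le_right hc2
  obtain ⟨l, hl⟩ := MulAction.exists_smul_eq L R R'
  have hR1 : (R : Subgroup L) ≠ ⊥ := R.ne_bot_of_dvd_card (hLc ▸ hpd.mul_right _)
  obtain ⟨c, hc, hc1'⟩ := (Subgroup.bot_or_exists_ne_one (R : Subgroup L)).resolve_left hR1
  have hcT : (c : G) * g = g * c := (mem_torus.1 (hR hc : (c : G) ∈ torus A y g)).1
  have hlc : ((l * c * l⁻¹ : L) : G) * g' = g' * ((l * c * l⁻¹ : L) : G) := by
    have hR'' : l * c * l⁻¹ ∈ (R' : Subgroup L) := by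
      rw [← hl, Sylow.coe_subgroup_smul]
      exact Subgroup.smul_mem_pointwise_smul c (MulAut.conj l) _ hc
    exact (mem_torus.1 (Subgroup.mem_subgroupOf.1 (hR' hR''))).1
  push_cast at hlc
  set L0 : G := (l : G) with hL0
  set c0 : G := (c : G) with hc0
  have hc0' : c0 ≠ 1 := fun e' => hc1' (Subtype.ext e')
  have hlc1 : L0 * c0 * L0⁻¹ ≠ 1 := fun e' => hc0' (conj_eq_one_iff.1 e')
  -- conjugation by `l` carries one centraliser into the other
  have hmap : ∀ w : G, w * g = g * w → L0 * w * L0⁻¹ * g' = g' * (L0 * w * L0⁻¹) := by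
    intro w hw
    refine hb.cent_trans h hgf' hv hvg' hlc hlc1 ?_
    have h1 := hb.cent_comm h hgf hv hvg hw hcT
    calc L0 * w * L0⁻¹ * (L0 * c0 * L0⁻¹) = L0 * (w * c0) * L0⁻¹ := by group
      _ = L0 * (c0 * w) * L0⁻¹ := by rw [h1]
      _ = _ := by group
  -- the two involutions differ by a torus element
  set v₂ := L0 * v * L0⁻¹ with hv2
  have hv2o : orderOf v₂ = 2 := by rw [hv2, orderOf_conj, hv]
  set x := L0 * g * L0⁻¹ with hx
  have hxg' : x * g' = g' * x := hmap g rfl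
  have hx1 : x ≠ 1 := fun e' => hgf.ne_one (conj_eq_one_iff.1 e')
  have hv2x : v₂ * x * v₂⁻¹ = x⁻¹ := by
    calc v₂ * x * v₂⁻¹ = L0 * (v * g * v⁻¹) * L0⁻¹ := by rw [hv2, hx]; group
      _ = x⁻¹ := by rw [hvg, hx]; group
  have hm : v * v₂ * g' = g' * (v * v₂) := by
    refine hb.cent_trans h hgf' hv hvg' hxg' hx1 ?_
    have h1 := hb.inverts_cent h hgf' hv hvg' hxg'
    have h2 : v₂ * x = x⁻¹ * v₂ := mul_inv_eq_iff_eq_mul.1 hv2x
    have h3 : v * x⁻¹ = x * v := by
      have := mul_inv_eq_iff_eq_mul.1 h1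
      calc v * x⁻¹ = x * (x⁻¹ * v) * x⁻¹ := by group
        _ = x * v := by rw [← this]; group
    rw [mul_assoc, h2, ← mul_assoc, h3, mul_assoc]
  have hmT : v * v₂ ∈ torus A y g' :=
    mem_torus.2 ⟨hm, mul_mem hvL (mul_mem (mul_mem l.2 hvL) (inv_mem l.2))⟩
  obtain ⟨r, hr⟩ : Odd (e A + 2) := by
    obtain ⟨r, hr⟩ := h.e_odd
    exact ⟨r + 1, by omega⟩
  set s := (v * v₂) ^ (r + 1) with hs
  have hsT : s ∈ torus A y g' := pow_mem hmT _
  have hs2 : s * s = v * v₂ := by
    have h1 : (v * v₂) ^ (2 * r + 1) = 1 := by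
      rw [← hr, ← hc2]
      exact orderOf_dvd_iff_pow_eq_one.1 ((torus A y g').orderOf_dvd_natCard hmT)
    rw [hs, ← pow_add, show r + 1 + (r + 1) = 2 * r + 1 + 1 by omega, pow_succ, h1, one_mul]
  have hsv : s * v = v * s⁻¹ := by
    have h1 := hb.inverts_cent h hgf' hv hvg' (mem_torus.1 hsT).1
    rw [← h1, ← mul_assoc, ← mul_assoc, inv_sq_one hv, one_mul, inv_eq hv]
  have hfix : s * v₂ * s⁻¹ = v := by
    calc s * v₂ * s⁻¹ = s * (v * (v * v₂)) * s⁻¹ := by rw [← mul_assoc v, inv_sq_one hv, one_mul]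
      _ = (s * v) * (s * s) * s⁻¹ := by rw [hs2]; group
      _ = v := by rw [hsv]; group
  set l' := s * L0 with hl'
  have hl'A : l' ∈ A := h.mem_of_commute hvA (Basic.ne_one hv) (by
    rw [← mul_inv_eq_iff_eq_mul, hl']
    calc s * L0 * v * (s * L0)⁻¹ = s * v₂ * s⁻¹ := by rw [hv2]; group
      _ = v := hfix)
  refine ⟨l', h.mem_of_orbStab hb.hy omega_le hl'A (mul_mem (mem_torus.1 hsT).2 l.2), fun w hw => ?_⟩
  have h1 := hmap w hw
  have h2 := hb.cent_comm h hgf' hv hvg' (mem_torus.1 hsT).1 h1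
  have : l' * w * l'⁻¹ = L0 * w * L0⁻¹ := by
    calc l' * w * l'⁻¹ = s * (L0 * w * L0⁻¹) * s⁻¹ := by rw [hl']; group
      _ = L0 * w * L0⁻¹ := by rw [h2, mul_inv_cancel_right]
  rw [this]
  exact h1

/-- Elements with square in `{1, v}` and only `1, v` of square one form at most four classes. -/
theorem four_classes {E : Subgroup G} {v a b c : G} (hv : v * v = 1) (hv1 : v ≠ 1) (hvE : v ∈ E)
    (hcv : ∀ k ∈ E, k * v = v * k) (hone : ∀ k ∈ E, k * k = 1 → k = 1 ∨ k = v)
    (hsq : ∀ k ∈ E, k * k = 1 ∨ k * k = v) (ha : a ∈ E) (hb : b ∈ E) (hc : c ∈ E)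
    (ha' : a ≠ 1 ∧ a ≠ v) (hb' : b ≠ 1 ∧ b ≠ v) (hc' : c ≠ 1 ∧ c ≠ v) (hab : b ≠ a ∧ b ≠ a * v)
    (hca : c ≠ a ∧ c ≠ a * v) (hcb : c ≠ b ∧ c ≠ b * v) : c = a * b ∨ c = a * b * v := by
  have hsq' : ∀ k ∈ E, k ≠ 1 → k ≠ v → k * k = v := fun k hk h1 h2 =>
    (hsq k hk).resolve_left fun e' => (hone k hk e').elim h1 h2
  have hinv : ∀ k ∈ E, k * k = v → k⁻¹ = k * v := fun k _ h1 =>
    inv_eq_of_mul_eq_one_right (by rw [← mul_assoc, h1, hv])
  have key : ∀ k ∈ E, ∀ l ∈ E, (k ≠ 1 ∧ k ≠ v) → (l ≠ 1 ∧ l ≠ v) → (l ≠ k ∧ l ≠ k * v) →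
      l * k = k * l * v := by
    intro k hk l hl hk' hl' hkl
    have h1 := hsq' k hk hk'.1 hk'.2
    have h2 := hsq' l hl hl'.1 hl'.2
    have h3 : k * l * (k * l) = v := hsq' _ (mul_mem hk hl)
      (fun e' => hkl.2 ((eq_inv_of_mul_eq_one_right e').trans (hinv k hk h1)))
      (fun e' => hkl.1 (mul_left_cancel (e'.trans h1.symm)))
    calc l * k = k⁻¹ * (k * l * (k * l)) * l⁻¹ := by group
      _ = k * v * v * (l * v) := by rw [h3, hinv k hk h1, hinv l hl h2]
      _ = k * l * v := by rw [mul_assoc k v v, hv, mul_one, mul_assoc]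
  by_contra hcon
  push Not at hcon
  have hab1 : a * b ≠ 1 ∧ a * b ≠ v := by
    have h1 := hsq' a ha ha'.1 ha'.2
    exact ⟨fun e' => hab.2 ((eq_inv_of_mul_eq_one_right e').trans (hinv a ha h1)),
      fun e' => hab.1 (mul_left_cancel (e'.trans h1.symm))⟩
  have h1 := key a ha c hc ha' hc' hca
  have h2 := key b hb c hc hb' hc' hcb
  have h3 := key _ (mul_mem ha hb) c hc hab1 hc' hcon
  have h4 : c * (a * b) = a * b * c := by
    calc c * (a * b) = (c * a) * b := by group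
      _ = a * c * (v * b) := by rw [h1]; group
      _ = a * (c * b) * v := by rw [← hcv b hb]; group
      _ = a * b * c * (v * v) := by rw [h2]; group
      _ = a * b * c := by rw [hv, mul_one]
  rw [h4] at h3
  exact hv1 (mul_eq_left.1 h3.symm)

/-- The centraliser of a fixed-point-free element of the stabiliser lies in the stabiliser. -/
theorem Blk.cent_le (h : Hyp A) (hsq : ∀ a ∈ A, a * a ∈ omega A) (hb : Blk A y t γ) {g : G}
    (hg : IsY A y g) : ∀ x : G, x * g = g * x → x ∈ bStab A y := by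
  classical
  have hgf := hb.noFix h hg
  obtain ⟨v, hv, hvo, hvg⟩ := hb.inverter h hg o_mem_blk
  have hvA : v ∈ A := h.invol_mem (smul_o.1 hvo) hv
  have hvZ : v ∈ omega A := mem_omega_of hvA (inv_sq_one hv)
  have hvL : v ∈ bStab A y := omega_le_bStab hvZ
  set T := Subgroup.centralizer ({g} : Set G) with hT
  have memT : ∀ {w}, w ∈ T ↔ w * g = g * w := Subgroup.mem_centralizer_singleton_iff
  -- the point of each element
  let T₁ := {x : G // x ∈ T ∧ x ≠ 1}
  have hpt : ∀ x : T₁, ∃ a ∈ A, (v * x.1) • (a • y) = a • y := by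
    intro x
    obtain ⟨c, hc, -⟩ := StronglyEmbedded.existsUnique_fixed h.stronglyEmbedded
      (hb.vx_invol h hgf hv hvg (memT.1 x.2.1))
    have hco : c ≠ o A := fun e' => x.2.2 (hb.point_inj h hgf hv hvg (memT.1 x.2.1)
      (b := 1) (by rw [mul_one, one_mul]) (c := o A) (e' ▸ hc) (by rw [mul_one, hvo]))
    obtain ⟨a, ha, hay⟩ := (h.regular hb.hy).2 c hco
    exact ⟨a, ha, hay ▸ hc⟩
  choose pa hpaA hpa using hpt
  -- conjugates into the stabiliser
  have hinto : ∀ (x : T₁) (a : G), a ∈ A → ((a : G ⧸ omega A) = (pa x : G ⧸ omega A)) →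
      IsY A y (a⁻¹ * x.1 * a) ∧ v * (a⁻¹ * x.1 * a) * v⁻¹ = (a⁻¹ * x.1 * a)⁻¹ := by
    intro x a ha hcl
    have hz : a⁻¹ * pa x ∈ omega A := QuotientGroup.eq.1 hcl
    have hav : a * v = v * a := h.invol_comm hvA hv ha
    have hav' : a⁻¹ * v = v * a⁻¹ := (Commute.inv_left (show Commute a v from hav)).eq
    have ho : orderOf (v * x.1) = 2 := hb.vx_invol h hgf hv hvg (memT.1 x.2.1)
    have hu : orderOf (v * (a⁻¹ * x.1 * a)) = 2 := by
      rw [show v * (a⁻¹ * x.1 * a) = a⁻¹ * (v * x.1) * (a⁻¹)⁻¹ by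
        rw [inv_inv, ← mul_assoc, ← mul_assoc, ← hav']; group, orderOf_conj, ho]
    have huf : (v * (a⁻¹ * x.1 * a)) • ((a⁻¹ * pa x) • y) = (a⁻¹ * pa x) • y := by
      rw [show v * (a⁻¹ * x.1 * a) = a⁻¹ * (v * x.1) * a by
        rw [← mul_assoc, ← mul_assoc, ← hav']; group, smul_smul,
        show a⁻¹ * (v * x.1) * a * (a⁻¹ * pa x) = a⁻¹ * ((v * x.1) * pa x) by group,
        mul_smul, mul_smul, hpa, mul_smul]
    have huL := hb.invol_mem h hu (mem_orb.2 (Or.inr ⟨_, hz, rfl⟩)) huf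
    have hxL : a⁻¹ * x.1 * a ∈ bStab A y := by
      have := mul_mem hvL huL
      rwa [← mul_assoc, inv_sq_one hv, one_mul] at this
    have hnf : NoFix A (a⁻¹ * x.1 * a) := by
      have := (hb.cent_noFix h hgf (memT.1 x.2.1) x.2.2).conj a⁻¹
      rwa [inv_inv] at this
    refine ⟨⟨hxL, fun p _ => hnf p⟩, ?_⟩
    have h1 := inv_sq_one hu
    rw [inv_eq hv]
    exact eq_inv_of_mul_eq_one_left (Eq.trans (by group) h1)
  -- the normaliser of `T` in `A`
  let E : Subgroup G := A ⊓ Subgroup.normalizer (T : Set G)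
  have hone : ∀ k ∈ E, k * k = 1 → k = 1 ∨ k = v := by
    intro k hk hk2
    by_cases hk1 : k = 1
    · exact Or.inl hk1
    right
    have hko : orderOf k = 2 := orderOf_two_iff.2 ⟨hk2, hk1⟩
    have hg'T : k * g * k⁻¹ ∈ T := (Subgroup.mem_normalizer_iff.1 hk.2 g).1 (memT.2 rfl)
    have hw : g * (k * g * k⁻¹) ∈ T := mul_mem (memT.2 rfl) hg'T
    have hwk : g * (k * g * k⁻¹) * k = k * (g * (k * g * k⁻¹)) := by
      rw [inv_eq hko, ← hb.cent_comm h hgf hv hvg (x := k * g * k) (w := g)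
        (by have := memT.1 hg'T; rwa [inv_eq hko] at this) rfl]
      calc k * g * k * g * k = k * (g * k * g * k) := by group
        _ = k * (g * (k * g * k)) := by group
        _ = _ := by rw [← hb.cent_comm h hgf hv hvg (x := k * g * k) (w := g)
          (by have := memT.1 hg'T; rwa [inv_eq hko] at this) rfl]
    have hw1 : g * (k * g * k⁻¹) = 1 := by
      by_contra hne
      exact hb.cent_noFix h hgf (memT.1 hw) hne (o A)
        (smul_o_of_mem (h.mem_of_commute hk.1 hk1 hwk))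
    have hkg : k * g * k⁻¹ = g⁻¹ := eq_inv_of_mul_eq_one_right hw1
    have hc : (v * k) * g = g * (v * k) := by
      have e1 : k * g = g⁻¹ * k := mul_inv_eq_iff_eq_mul.1 hkg
      have e2 : v * g⁻¹ = g * v := by
        have := mul_inv_eq_iff_eq_mul.1 hvg
        calc v * g⁻¹ = g * (g⁻¹ * v) * g⁻¹ := by group
          _ = g * v := by rw [← this]; group
      rw [mul_assoc, e1, ← mul_assoc, e2, mul_assoc]
    by_contra hkv
    refine hb.cent_noFix h hgf hc (fun e' => hkv ?_) (o A) (smul_o_of_mem (mul_mem hvA hk.1))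
    rw [← inv_eq hv]; exact eq_inv_of_mul_eq_one_right e'
  have hsqE : ∀ k ∈ E, k * k = 1 ∨ k * k = v := fun k hk =>
    hone _ (mul_mem hk hk) (h.omega_sq (hsq k hk.1))
  have hvE : v ∈ E := by
    refine ⟨hvA, Subgroup.mem_normalizer_iff.2 fun w => ⟨fun hw => ?_, fun hw => ?_⟩⟩
    · rw [hb.inverts_cent h hgf hv hvg (memT.1 hw)]; exact inv_mem hw
    · have h1 := hb.inverts_cent h hgf hv hvg (memT.1 hw)
      rw [show v * (v * w * v⁻¹) * v⁻¹ = (v * v) * w * (v * v)⁻¹ by group, inv_sq_one hv,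
        one_mul, inv_one, mul_one] at h1
      rw [h1]; exact inv_mem hw
  have hcv : ∀ k ∈ E, k * v = v * k := fun k hk => h.invol_comm hvA hv hk.1
  -- every point class is represented in `E`
  have hrep : ∀ x : T₁, ∃ k ∈ E, (k : G ⧸ omega A) = (pa x : G ⧸ omega A) := by
    intro x
    obtain ⟨hY, hvY⟩ := hinto x (pa x) (hpaA x) rfl
    obtain ⟨l, hl, hlmap⟩ := hb.conj_torus h hg hY hv hvA hvg hvY
    have hnf : NoFix A x.1 := hb.cent_noFix h hgf (memT.1 x.2.1) x.2.2
    refine ⟨pa x * l, ⟨mul_mem (hpaA x) (omega_le hl), ?_⟩, QuotientGroup.eq.2 ?_⟩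
    · refine Subgroup.mem_normalizer_iff.2 ?_
      have hfin : ∀ w ∈ T, (pa x * l) * w * (pa x * l)⁻¹ ∈ T := by
        intro w hw
        have h1 := hlmap w (memT.1 hw)
        refine memT.2 (hb.cent_trans h hgf hv hvg (memT.1 x.2.1) x.2.2 ?_)
        calc pa x * l * w * (pa x * l)⁻¹ * x.1
            = pa x * ((l * w * l⁻¹) * ((pa x)⁻¹ * x.1 * pa x)) * (pa x)⁻¹ := by group
          _ = pa x * (((pa x)⁻¹ * x.1 * pa x) * (l * w * l⁻¹)) * (pa x)⁻¹ := by rw [h1]
          _ = _ := by group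
      intro w
      refine ⟨hfin w, fun hw => ?_⟩
      let f : T → T := fun u => ⟨_, hfin u.1 u.2⟩
      have hinj : Function.Injective f := fun u u' e' => by
        have e2 : (pa x * l) * u.1 * (pa x * l)⁻¹ = (pa x * l) * u'.1 * (pa x * l)⁻¹ :=
          congrArg Subtype.val e'
        exact Subtype.ext (mul_left_cancel (mul_right_cancel e2))
      obtain ⟨⟨u, hu⟩, hfu⟩ := (Finite.injective_iff_surjective.1 hinj) ⟨_, hw⟩
      have e2 : (pa x * l) * u * (pa x * l)⁻¹ = (pa x * l) * w * (pa x * l)⁻¹ := congrArg Subtype.val hfu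
      exact mul_left_cancel (mul_right_cancel e2) ▸ hu
    · rw [show (pa x * l)⁻¹ * pa x = l⁻¹ by group]; exact inv_mem hl
  -- the classes
  let cls : T₁ → G ⧸ omega A := fun x => (pa x : G ⧸ omega A)
  have : Fintype E := Fintype.ofFinite _
  let S := Finset.univ.image (fun k : E => ((k : G) : G ⧸ omega A))
  have : Fintype T₁ := Fintype.ofFinite _
  let I := Finset.univ.image cls
  have hIS : I ⊆ S := by
    intro q hq
    obtain ⟨x, -, rfl⟩ := Finset.mem_image.1 hq
    obtain ⟨k, hk, hkx⟩ := hrep x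
    exact Finset.mem_image.2 ⟨⟨k, hk⟩, Finset.mem_univ _, hkx⟩
  have hS4 : S.card ≤ 4 := by
    have hnZ : ∀ k ∈ E, (k : G ⧸ omega A) ≠ ((1 : G) : G ⧸ omega A) → k ≠ 1 ∧ k ≠ v := by
      intro k _ hne
      refine ⟨fun e' => hne (by rw [e']), fun e' => hne (QuotientGroup.eq.2 ?_)⟩
      rw [e', mul_one]; exact inv_mem hvZ
    have hdiff : ∀ k ∈ E, ∀ m ∈ E, (k : G ⧸ omega A) ≠ (m : G ⧸ omega A) → k ≠ m ∧ k ≠ m * v := by
      intro k _ m _ hne
      refine ⟨fun e' => hne (by rw [e']), fun e' => hne (QuotientGroup.eq.2 ?_)⟩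
      rw [e', show (m * v)⁻¹ * m = v⁻¹ by group]; exact inv_mem hvZ
    by_cases hA1 : ∀ k ∈ E, (k : G ⧸ omega A) = ((1 : G) : G ⧸ omega A)
    · refine le_trans (Finset.card_le_card (t := {((1 : G) : G ⧸ omega A)}) ?_) (by simp)
      intro q hq
      obtain ⟨k, -, rfl⟩ := Finset.mem_image.1 hq
      exact Finset.mem_singleton.2 (hA1 k k.2)
    push Not at hA1
    obtain ⟨a, haE, hane⟩ := hA1
    by_cases hA2 : ∀ k ∈ E, (k : G ⧸ omega A) = ((1 : G) : G ⧸ omega A) ∨ (k : G ⧸ omega A) = (a : G ⧸ omega A)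
    · refine le_trans (Finset.card_le_card (t := {((1 : G) : G ⧸ omega A), (a : G ⧸ omega A)}) ?_)
        (Finset.card_le_two.trans (by omega))
      intro q hq
      obtain ⟨k, -, rfl⟩ := Finset.mem_image.1 hq
      simpa using hA2 k k.2
    push Not at hA2
    obtain ⟨b, hbE, hbne, hba⟩ := hA2
    refine le_trans (Finset.card_le_card (t := {((1 : G) : G ⧸ omega A), (a : G ⧸ omega A),
      (b : G ⧸ omega A), ((a * b : G) : G ⧸ omega A)}) ?_) Finset.card_le_four
    intro q hq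
    obtain ⟨⟨k, hk⟩, -, rfl⟩ := Finset.mem_image.1 hq
    simp only [Finset.mem_insert, Finset.mem_singleton]
    by_contra hcon
    push Not at hcon
    obtain ⟨hk1, hka, hkb, hkab⟩ := hcon
    rcases four_classes (inv_sq_one hv) (Basic.ne_one hv) hvE hcv hone hsqE haE hbE hk (hnZ a haE hane)
      (hnZ b hbE hbne) (hnZ k hk hk1) (hdiff b hbE a haE hba) (hdiff k hk a haE hka)
      (hdiff k hk b hbE hkb) with e' | e'
    · exact hkab (by rw [e'])
    · refine hkab (QuotientGroup.eq.2 ?_)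
      rw [e', show (a * b * v)⁻¹ * (a * b) = v⁻¹ by group]; exact inv_mem hvZ
  -- each fibre
  have hfib : ∀ q ∈ I, (Finset.univ.filter fun x => cls x = q).card = e A + 1 := by
    intro q hq
    obtain ⟨x₀, -, rfl⟩ := Finset.mem_image.1 hq
    set a := pa x₀ with ha
    obtain ⟨hY, hvY⟩ := hinto x₀ a (hpaA x₀) rfl
    set g₀ := a⁻¹ * x₀.1 * a with hg₀
    have hg₀f := hb.noFix h hY
    have hcard := hb.card_torus h hY hv hvL hvY
    have hav : a * v = v * a := h.invol_comm hvA hv (hpaA x₀)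
    rw [← Fintype.card_subtype, ← Nat.card_eq_fintype_card]
    have hfw : ∀ x : {x : T₁ // cls x = cls x₀}, a⁻¹ * x.1.1 * a ∈ torus A y g₀ := fun x => by
      refine mem_torus.2 ⟨?_, (hinto x.1 a (hpaA x₀) x.2.symm).1.1⟩
      have h1 := hb.cent_comm h hgf hv hvg (memT.1 x.1.2.1) (memT.1 x₀.2.1)
      calc a⁻¹ * x.1.1 * a * g₀ = a⁻¹ * (x.1.1 * x₀.1) * a := by rw [hg₀]; group
        _ = a⁻¹ * (x₀.1 * x.1.1) * a := by rw [h1]
        _ = g₀ * (a⁻¹ * x.1.1 * a) := by rw [hg₀]; group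
    have hbij : Nat.card {x : T₁ // cls x = cls x₀} = Nat.card {w : torus A y g₀ // (w : G) ≠ 1} := by
      refine Nat.card_eq_of_bijective (fun x => (⟨⟨_, hfw x⟩, fun e' => x.1.2.2 (by
        calc x.1.1 = a * (a⁻¹ * x.1.1 * a) * a⁻¹ := by group
          _ = 1 := by rw [show a⁻¹ * x.1.1 * a = 1 from e']; group)⟩ : {w : torus A y g₀ // (w : G) ≠ 1})) ⟨?_, ?_⟩
      · rintro x x' e'
        have e2 : a⁻¹ * x.1.1 * a = a⁻¹ * x'.1.1 * a :=
          congrArg (fun w : {w : torus A y g₀ // (w : G) ≠ 1} => ((w.1 : torus A y g₀) : G)) e'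
        exact Subtype.ext (Subtype.ext (mul_left_cancel (mul_right_cancel e2)))
      · rintro ⟨⟨w, hw⟩, hw1⟩
        have hwT : a * w * a⁻¹ ∈ T := by
          refine memT.2 (hb.cent_trans h hgf hv hvg (memT.1 x₀.2.1) x₀.2.2 ?_)
          have h1 := (mem_torus.1 hw).1
          calc a * w * a⁻¹ * x₀.1 = a * (w * g₀) * a⁻¹ := by rw [hg₀]; group
            _ = a * (g₀ * w) * a⁻¹ := by rw [h1]
            _ = _ := by rw [hg₀]; group
        let x : T₁ := ⟨a * w * a⁻¹, hwT, fun e' => hw1 (conj_eq_one_iff.1 e')⟩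
        have hu := hb.vx_invol h hg₀f hv hvY (mem_torus.1 hw).1
        obtain ⟨p, hp, hup⟩ := hb.invol_fixed h hu (mul_mem hvL (mem_torus.1 hw).2)
        rcases mem_orb.1 hp with hpo | ⟨z, hz, hzy⟩
        · exact absurd (hb.point_inj h hg₀f hv hvY (mem_torus.1 hw).1 (b := 1)
            (by rw [mul_one, one_mul]) (c := o A) (hpo ▸ hup) (by rw [mul_one, hvo])) hw1
        have hfix : (v * x.1) • ((a * z) • y) = (a * z) • y := by
          show (v * (a * w * a⁻¹)) • _ = _
          rw [show v * (a * w * a⁻¹) = a * (v * w) * a⁻¹ by rw [← mul_assoc, ← mul_assoc, ← hav]; group,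
            mul_smul a z, hzy, mul_smul, inv_smul_smul, mul_smul, hup]
        have heq : pa x = a * z := h.eq_of_smul hb.hy (hpaA x) (mul_mem (hpaA x₀) (omega_le hz))
          ((StronglyEmbedded.existsUnique_fixed h.stronglyEmbedded
            (hb.vx_invol h hgf hv hvg (memT.1 hwT))).unique (hpa x) hfix)
        refine ⟨⟨x, ?_⟩, Subtype.ext (Subtype.ext (by show a⁻¹ * (a * w * a⁻¹) * a = w; group))⟩
        show ((pa x : G) : G ⧸ omega A) = (a : G ⧸ omega A)
        rw [QuotientGroup.eq, heq, show (a * z)⁻¹ * a = z⁻¹ by group]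
        exact inv_mem hz
    rw [hbij]
    have : Fintype (torus A y g₀) := Fintype.ofFinite _
    rw [Nat.card_eq_fintype_card] at hcard ⊢
    have h1 : Fintype.card {w : torus A y g₀ // (w : G) ≠ 1} = Fintype.card (torus A y g₀) - 1 := by
      rw [← Fintype.card_subtype_eq (1 : torus A y g₀), ← Fintype.card_subtype_compl]
      exact Fintype.card_congr (Equiv.subtypeEquivRight fun w => by
        rw [ne_eq, ← OneMemClass.coe_one (torus A y g₀), SetLike.coe_eq_coe])
    rw [h1, hcard]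
    omega
  have htot : Fintype.card T₁ = I.card * (e A + 1) := by
    rw [← Finset.card_univ, Finset.card_eq_sum_card_image cls, Finset.sum_congr rfl hfib,
      Finset.sum_const, smul_eq_mul]
  have hTcard : Nat.card T = I.card * (e A + 1) + 1 := by
    rw [← htot, ← Nat.card_eq_fintype_card, ← Finite.card_option]
    exact Nat.card_congr (((Equiv.optionSubtypeNe (1 : T)).symm.trans (Equiv.optionCongr
      { toFun := fun x => ⟨x.1.1, x.1.2, fun e' => x.2 (Subtype.ext e')⟩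
        invFun := fun x => ⟨⟨x.1, x.2.1⟩, fun e' => x.2.2 (congrArg Subtype.val e')⟩
        left_inv := fun x => rfl
        right_inv := fun x => rfl })))
  -- exactly one class
  have hI : I.card ≤ 1 := by
    have h1 : e A + 2 ∣ Nat.card T := hb.card_torus h hg hv hvL hvg ▸
      Subgroup.card_dvd_of_le inf_le_left
    rw [hTcard] at h1
    have hle := (Finset.card_le_card hIS).trans hS4
    obtain ⟨n, hn2, hn⟩ := h.exists_exp
    have h4 : 4 ≤ 2 ^ n := le_trans (le_of_eq (by norm_num)) (Nat.pow_le_pow_right (by omega : 2 > 0) hn2)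
    obtain ⟨m, hm⟩ := h1
    rcases lt_trichotomy m I.card with hlt | heq | hgt
    · have : (e A + 2) * (m + 1) ≤ (e A + 2) * I.card := Nat.mul_le_mul_left _ hlt
      nlinarith
    · subst heq; nlinarith
    · have : (e A + 2) * (I.card + 1) ≤ (e A + 2) * m := Nat.mul_le_mul_left _ hgt
      nlinarith
  intro x hx
  by_cases hx1 : x = 1
  · rw [hx1]; exact one_mem _
  let x' : T₁ := ⟨x, memT.2 hx, hx1⟩
  let g' : T₁ := ⟨g, memT.2 rfl, hgf.ne_one⟩
  have hsame : cls x' = cls g' := Finset.card_le_one.1 hI _ (Finset.mem_image_of_mem _ (Finset.mem_univ _))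
    _ (Finset.mem_image_of_mem _ (Finset.mem_univ _))
  -- the class of `g` is trivial
  obtain ⟨p, hp, hpg⟩ := hb.invol_fixed h (hb.vx_invol h hgf hv hvg rfl) (mul_mem hvL hg.1)
  have hga : pa g' ∈ omega A := by
    rcases mem_orb.1 hp with hpo | ⟨z, hz, hzy⟩
    · exact absurd (hb.point_inj h hgf hv hvg rfl (b := 1) (by rw [mul_one, one_mul]) (c := o A)
        (hpo ▸ hpg) (by rw [mul_one, hvo])) hgf.ne_one
    · rw [h.eq_of_smul hb.hy (hpaA g') (omega_le hz) ((StronglyEmbedded.existsUnique_fixed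
        h.stronglyEmbedded (hb.vx_invol h hgf hv hvg rfl)).unique (hpa g') (hzy ▸ hpg))]
      exact hz
  have hL := (hinto x' 1 (one_mem _) (Eq.trans (QuotientGroup.eq.2 (by
    rw [inv_one, one_mul]; exact hga)) hsame.symm)).1.1
  simpa using hL

end Cfsg.Agent.TICentralizer
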