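/-
Counting fixed-point-free elements: `A` is elementary abelian.
-/
import Cfsg.Agent.TICentralizer.Torus

set_option autoImplicit false

namespace Cfsg.Agent.TICentralizer

open MulAction Pointwise
open Cfsg.Agent.Involutions
open Cfsg.Agent.Involutions.Basic (inv_eq inv_sq_one orderOf_conj orderOf_two_iff)

variable {G : Type*} [Group G] [Finite G] {A : Subgroup G} {y : G ⧸ nA A} {t γ : G}

/-- The number of fixed-point-free elements in a sharply determined two-transitive action. -/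
theorem count_fpf {Ω : Type*} [MulAction G Ω] (K : Subgroup G) (B : Set Ω) [Finite Ω] (a b : ℕ)
    (ha : ∀ p ∈ B, Nat.card {g : K // (g : G) • p = p} = a)
    (hb : ∀ p ∈ B, ∀ r ∈ B, p ≠ r → Nat.card {g : K // (g : G) • p = p ∧ (g : G) • r = r} = b)
    (hA : Nat.card B * a = Nat.card K) (hB : Nat.card B * (Nat.card B - 1) * b = Nat.card K)
    (h3 : ∀ g : G, g ∈ K → ∀ p ∈ B, ∀ q ∈ B, ∀ r ∈ B, p ≠ q → q ≠ r → p ≠ r →
      g • p = p → g • q = q → g • r = r → g = 1) :
    2 * Nat.card {g : K // ∀ p ∈ B, (g : G) • p ≠ p} + (Nat.card B - 1) * (Nat.card B - 2) = Nat.card K := by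
  classical
  have := Fintype.ofFinite K
  have := Fintype.ofFinite B
  set n := Fintype.card B with hn
  have hnB : Nat.card B = n := Nat.card_eq_fintype_card
  rw [hnB] at hA hB ⊢
  let f : K → ℕ := fun g => (Finset.univ.filter fun p : B => (g : G) • (p : Ω) = p).card
  have hf0 : ∀ g : K, f g = 0 ↔ ∀ p ∈ B, (g : G) • p ≠ p := fun g => by
    simp only [f, Finset.card_eq_zero, Finset.filter_eq_empty_iff, Finset.mem_univ, true_implies]
    exact ⟨fun h p hp => h (x := ⟨p, hp⟩), fun h p => h p.1 p.2⟩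
  have hf1 : f 1 = n := by simp [f, hn]
  have hf2 : ∀ g : K, g ≠ 1 → f g ≤ 2 := by
    intro g hg
    by_contra hlt
    push Not at hlt
    obtain ⟨p, q, r, hp, hq, hr, hpq, hpr, hqr⟩ := Finset.two_lt_card_iff.1 hlt
    simp only [Finset.mem_filter] at hp hq hr
    exact hg (Subtype.ext (h3 g g.2 p p.2 q q.2 r r.2 (Subtype.coe_injective.ne hpq)
      (Subtype.coe_injective.ne hqr) (Subtype.coe_injective.ne hpr) hp.2 hq.2 hr.2))
  have hsum1 : ∑ g : K, f g = Fintype.card K := by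
    rw [show ∑ g : K, f g = Fintype.card (Σ g : K, {p : B // (g : G) • (p : Ω) = p}) by
      simp only [Fintype.card_sigma, Fintype.card_subtype]; rfl]
    rw [show Fintype.card (Σ g : K, {p : B // (g : G) • (p : Ω) = p}) =
      Fintype.card (Σ p : B, {g : K // (g : G) • (p : Ω) = p}) from Fintype.card_congr
        ⟨fun x => ⟨x.2.1, x.1, x.2.2⟩, fun x => ⟨x.2.1, x.1, x.2.2⟩, fun x => rfl, fun x => rfl⟩,
      Fintype.card_sigma, Finset.sum_congr rfl (fun (p : B) _ => show
        Fintype.card {g : K // (g : G) • (p : Ω) = p} = a by rw [← Nat.card_eq_fintype_card]; exact ha p p.2),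
      Finset.sum_const, Finset.card_univ, smul_eq_mul, ← hn, hA, Nat.card_eq_fintype_card]
  have hsum2 : ∑ g : K, f g * (f g - 1) = Fintype.card K := by
    let P := {x : B × B // x.1 ≠ x.2}
    have hP : Fintype.card P = n * (n - 1) := by
      rw [Fintype.card_subtype_compl, Fintype.card_prod, Nat.mul_sub_one, ← hn]
      congr 1
      exact (Fintype.card_congr ⟨fun p => p.1.1, fun i => ⟨(i, i), rfl⟩,
        fun p => Subtype.ext (Prod.ext rfl p.2), fun _ => rfl⟩).trans hn.symm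
    have hrow : ∀ g : K, Fintype.card {x : P // (g : G) • (x.1.1 : Ω) = x.1.1 ∧ (g : G) • (x.1.2 : Ω) = x.1.2}
        = f g * (f g - 1) := by
      intro g
      rw [Nat.mul_sub_one, ← Finset.offDiag_card, Fintype.card_subtype]
      refine Finset.card_bij (fun x _ => x.1) ?_ ?_ ?_
      · intro x hx
        simp only [Finset.mem_filter, Finset.mem_univ, true_and] at hx
        exact Finset.mem_offDiag.2 ⟨Finset.mem_filter.2 ⟨Finset.mem_univ _, hx.1⟩,
          Finset.mem_filter.2 ⟨Finset.mem_univ _, hx.2⟩, x.2⟩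
      · exact fun x _ x' _ e' => Subtype.ext e'
      · intro x hx
        simp only [Finset.mem_offDiag, Finset.mem_filter, Finset.mem_univ, true_and] at hx
        exact ⟨⟨x, hx.2.2⟩, Finset.mem_filter.2 ⟨Finset.mem_univ _, hx.1, hx.2.1⟩, rfl⟩
    rw [← Finset.sum_congr rfl (fun g _ => hrow g), ← Fintype.card_sigma]
    rw [show Fintype.card (Σ g : K, {x : P // (g : G) • (x.1.1 : Ω) = x.1.1 ∧ (g : G) • (x.1.2 : Ω) = x.1.2}) =
      Fintype.card (Σ x : P, {g : K // (g : G) • (x.1.1 : Ω) = x.1.1 ∧ (g : G) • (x.1.2 : Ω) = x.1.2})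
        from Fintype.card_congr
          ⟨fun z => ⟨z.2.1, z.1, z.2.2⟩, fun z => ⟨z.2.1, z.1, z.2.2⟩, fun z => rfl, fun z => rfl⟩,
      Fintype.card_sigma, Finset.sum_congr rfl (fun (x : P) _ => show
        Fintype.card {g : K // (g : G) • (x.1.1 : Ω) = x.1.1 ∧ (g : G) • (x.1.2 : Ω) = x.1.2} = b by
          rw [← Nat.card_eq_fintype_card]
          exact hb _ x.1.1.2 _ x.1.2.2 (Subtype.coe_injective.ne x.2)),
      Finset.sum_const, Finset.card_univ, smul_eq_mul, hP, hB, Nat.card_eq_fintype_card]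
  have h0 : Nat.card {g : K // ∀ p ∈ B, (g : G) • p ≠ p} = (Finset.univ.filter fun g : K => f g = 0).card := by
    rw [Nat.card_eq_fintype_card, Fintype.card_subtype]
    congr 1
    exact Finset.filter_congr fun g _ => (hf0 g).symm
  rw [h0, Nat.card_eq_fintype_card]
  -- sum away from the identity
  have hsplit : ∀ F : K → ℕ, ∑ g : K, F g = F 1 + ∑ g ∈ Finset.univ.erase 1, F g := fun F =>
    (Finset.add_sum_erase _ _ (Finset.mem_univ 1)).symm
  have e1 := hsum1
  have e2 := hsum2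
  rw [hsplit, hf1] at e1 e2
  have hne0 : n ≠ 0 := by
    intro hz
    rw [hz, zero_mul] at hA
    exact (Nat.card_pos (α := K)).ne' hA.symm
  have e0 : (Finset.univ.filter fun g : K => f g = 0).card =
      ∑ g ∈ Finset.univ.erase 1, (if f g = 0 then 1 else 0) := by
    rw [Finset.card_filter, hsplit, if_neg (by rw [hf1]; exact hne0), zero_add]
  have e3 : ∑ g ∈ Finset.univ.erase (1 : K), (2 * (if f g = 0 then 1 else 0) + 2 * f g) =
      ∑ g ∈ Finset.univ.erase (1 : K), (f g * (f g - 1) + 2) := Finset.sum_congr rfl fun g hg => by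
    have := hf2 g (Finset.ne_of_mem_erase hg)
    interval_cases (f g) <;> simp
  rw [Finset.sum_add_distrib, Finset.sum_add_distrib, ← Finset.mul_sum, ← Finset.mul_sum,
    Finset.sum_const, Finset.card_erase_of_mem (Finset.mem_univ _), Finset.card_univ, smul_eq_mul,
    ← e0] at e3
  obtain ⟨k, hk⟩ : ∃ k, Fintype.card K = k + 1 := ⟨_, (Nat.succ_pred_eq_of_pos Fintype.card_pos).symm⟩
  rw [hk, Nat.add_sub_cancel] at e3
  rw [hk] at e1 e2 ⊢
  obtain ⟨m, hm⟩ : ∃ m, n = m + 1 := ⟨n - 1, by omega⟩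
  rw [hm] at e1 e2 ⊢
  rw [Nat.add_sub_cancel] at e2 ⊢
  rcases m with _ | m
  · simp only [Nat.zero_mul, mul_zero, zero_add] at e1 e2 ⊢; omega
  · rw [show m + 1 + 1 - 2 = m by omega]
    nlinarith

theorem nA_card_two (h : Hyp A) (hy : y ≠ o A) {p r : G ⧸ nA A} (hpr : p ≠ r) (K : Subgroup G)
    (k : G) (hk : k • o A = p) (hk' : k • y = r) (hK : k ∈ K) (htwo : two y ≤ K) :
    Nat.card {g : K // (g : G) • p = p ∧ (g : G) • r = r} = e A := by
  rw [e, ← h.card_two hy]
  refine (Nat.card_eq_of_bijective (fun d : two y =>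
    (⟨⟨k * d * k⁻¹, mul_mem (mul_mem hK (htwo d.2)) (inv_mem hK)⟩, ?_, ?_⟩ :
      {g : K // (g : G) • p = p ∧ (g : G) • r = r})) ⟨?_, ?_⟩).symm
  · show (k * (d : G) * k⁻¹) • p = p
    rw [← hk, mul_smul, inv_smul_smul, mul_smul, smul_o.2 d.2.1]
  · show (k * (d : G) * k⁻¹) • r = r
    rw [← hk', mul_smul, inv_smul_smul, mul_smul, show (d : G) • y = y from d.2.2]
  · intro a b e'
    have e2 : k * (a : G) * k⁻¹ = k * b * k⁻¹ :=
      congrArg (fun g : {g : K // (g : G) • p = p ∧ (g : G) • r = r} => ((g.1 : K) : G)) e'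
    exact Subtype.ext (mul_left_cancel (mul_right_cancel e2))
  · rintro ⟨⟨g, hg⟩, hg1, hg2⟩
    refine ⟨⟨k⁻¹ * g * k, smul_o.1 ?_, ?_⟩, Subtype.ext (Subtype.ext (by
      show k * (k⁻¹ * g * k) * k⁻¹ = g; group))⟩
    · rw [mul_smul, hk, mul_smul, show g • p = p from hg1, ← hk, inv_smul_smul]
    · show (k⁻¹ * g * k) • y = y
      rw [mul_smul, hk', mul_smul, show g • r = r from hg2, ← hk', inv_smul_smul]

theorem nA_card_one {p : G ⧸ nA A} (K : Subgroup G) (k : G) (hk : k • o A = p) (hK : k ∈ K) :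
    Nat.card {g : K // (g : G) • p = p} = Nat.card {g : K // (g : G) • o A = o A} := by
  refine Nat.card_congr (Equiv.subtypeEquiv
    { toFun := fun g => ⟨k⁻¹ * g * k, mul_mem (mul_mem (inv_mem hK) g.2) hK⟩
      invFun := fun g => ⟨k * g * k⁻¹, mul_mem (mul_mem hK g.2) (inv_mem hK)⟩
      left_inv := fun g => Subtype.ext (by show k * (k⁻¹ * (g : G) * k) * k⁻¹ = g; group)
      right_inv := fun g => Subtype.ext (by show k⁻¹ * (k * (g : G) * k⁻¹) * k = g; group) }
    fun g => ?_)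
  show (g : G) • p = p ↔ (k⁻¹ * (g : G) * k) • o A = o A
  rw [mul_smul, mul_smul, inv_smul_eq_iff, hk]

set_option maxHeartbeats 1000000 in
/-- In the presence of a block, `A` is generated by involutions. -/
theorem Blk.le_omega (h : Hyp A) (hsq : ∀ a ∈ A, a * a ∈ omega A) (hb : Blk A y t γ) : A ≤ omega A := by
  classical
  by_contra hne
  have hlt : Nat.card (omega A) < Nat.card A := by
    by_contra hge
    push Not at hge
    exact hne (Subgroup.eq_of_le_of_card_ge omega_le hge).ge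
  rw [h.card_omega] at hlt
  set L := bStab A y with hL
  obtain ⟨n, hn2, hn⟩ := h.exists_exp
  have h4 : 4 ≤ 2 ^ n := le_trans (le_of_eq (by norm_num)) (Nat.pow_le_pow_right (by omega : 2 > 0) hn2)
  have hLc := hb.stab_card h
  have hBc := h.card_blk hb.hy
  -- the count in `L`
  have hLo : Nat.card {g : L // (g : G) • o A = o A} = (e A + 1) * e A := by
    have h1 : ∀ p ∈ blk A y, ∃ k ∈ L, k • o A = p := by
      intro p hp
      by_cases e' : p = o A
      · exact ⟨1, one_mem _, by rw [one_smul, e']⟩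
      · obtain ⟨l, hl, hl1, -⟩ := hb.trans_blk h hp o_mem_blk e'
        exact ⟨l, hl, hl1⟩
    rw [← h.card_omega, show e A = Nat.card (two y) from (h.card_two hb.hy).symm, ← Nat.card_prod]
    refine (Nat.card_eq_of_bijective (fun p : omega A × two y =>
      (⟨⟨(p.2 : G) * p.1, mul_mem (h.two_le_bStab p.2.2) (omega_le_bStab p.1.2)⟩,
        smul_o.2 (mul_mem p.2.2.1 (le_nA (omega_le p.1.2)))⟩ : {g : L // (g : G) • o A = o A})) ⟨?_, ?_⟩).symm
    · rintro ⟨z, d⟩ ⟨z', d'⟩ e'
      have e2 : (d : G) * z = d' * z' :=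
        congrArg (fun s : {g : L // (g : G) • o A = o A} => ((s.1 : L) : G)) e'
      have e3 : (d' : G)⁻¹ * d = z' * (z : G)⁻¹ := by
        rw [eq_mul_inv_iff_mul_eq, mul_assoc, e2, inv_mul_cancel_left]
      have e4 := h.two_inf hb.hy (mul_mem (inv_mem d'.2) d.2)
        (e3 ▸ omega_le (mul_mem z'.2 (inv_mem z.2)))
      rw [e4] at e3
      exact Prod.ext (Subtype.ext (mul_inv_eq_one.1 e3.symm).symm) (Subtype.ext (inv_mul_eq_one.1 e4).symm)
    · rintro ⟨⟨g, hg⟩, hgo⟩
      obtain ⟨d, hd, a, ha, rfl⟩ := h.factor hb.hy (smul_o.1 hgo)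
      have ha' : a ∈ omega A := h.mem_of_orbStab hb.hy omega_le ha
        (show a ∈ bStab A y by simpa using mul_mem (inv_mem (h.two_le_bStab hd)) hg)
      exact ⟨(⟨a, ha'⟩, ⟨d, hd⟩), rfl⟩
  have hY := count_fpf L (blk A y) ((e A + 1) * e A) (e A)
    (fun p hp => by
      by_cases e' : p = o A
      · rw [e']; exact hLo
      · obtain ⟨l, hl, hl1, -⟩ := hb.trans_blk h hp o_mem_blk e'
        rw [nA_card_one L l hl1 hl, hLo])
    (fun p hp r hr hpr => by
      obtain ⟨l, hl, hl1, hl2⟩ := hb.trans_blk h hp hr hpr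
      exact nA_card_two h hb.hy hpr L l hl1 hl2 hl h.two_le_bStab)
    (by rw [hBc, hLc])
    (by rw [hBc, hLc, show e A + 2 - 1 = e A + 1 by omega, mul_assoc])
    (fun g _ p _ q _ r _ => h.eq_one_of_fix_three)
  -- the count in `G`
  have : Finite (G ⧸ nA A) := inferInstance
  obtain ⟨hN, -⟩ := h.regular hb.hy
  have hNM : Nat.card (nA A) = Nat.card A * e A := by
    rw [Subgroup.card_eq_card_quotient_mul_card_subgroup (A.subgroupOf (nA A)),
      Nat.card_congr (Subgroup.subgroupOfEquivOfLe (le_nA (A := A))).toEquiv, mul_comm, e]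
  have hGc : Nat.card G = (Nat.card A + 1) * (Nat.card A * e A) := by
    rw [← hN, ← hNM]
    exact Subgroup.card_eq_card_quotient_mul_card_subgroup _
  have huniv : Nat.card (Set.univ : Set (G ⧸ nA A)) = Nat.card A + 1 := by
    rw [Nat.card_congr (Equiv.Set.univ _), hN]
  have hF := count_fpf (⊤ : Subgroup G) (Set.univ : Set (G ⧸ nA A)) (Nat.card A * e A) (e A)
    (fun p _ => by
      obtain ⟨k, hk⟩ := h.move_o hb.hy p
      rw [nA_card_one ⊤ k hk (Subgroup.mem_top _), ← hNM]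
      exact Nat.card_congr
        { toFun := fun g => ⟨g.1.1, smul_o.1 g.2⟩
          invFun := fun g => ⟨⟨g.1, Subgroup.mem_top _⟩, smul_o.2 g.2⟩
          left_inv := fun g => rfl
          right_inv := fun g => rfl })
    (fun p _ r _ hpr => by
      obtain ⟨k, hk1, hk2⟩ := h.two_trans hb.hy hpr
      exact nA_card_two h hb.hy hpr ⊤ k hk1 hk2 (Subgroup.mem_top _) le_top)
    (by rw [huniv, Subgroup.card_top, hGc])
    (by rw [huniv, Subgroup.card_top, hGc, Nat.add_sub_cancel, mul_assoc])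
    (fun g _ p _ q _ r _ => h.eq_one_of_fix_three)
  -- translates of the fixed-point-free elements of `L` are distinct
  let YL := {g : L // ∀ p ∈ blk A y, (g : G) • p ≠ p}
  let FG := {g : (⊤ : Subgroup G) // ∀ p ∈ (Set.univ : Set (G ⧸ nA A)), (g : G) • p ≠ p}
  let ψ : (G ⧸ L) × YL → FG := fun q =>
    ⟨⟨q.1.out * ((q.2.1 : L) : G) * q.1.out⁻¹, Subgroup.mem_top _⟩,
      fun p _ => (hb.noFix h ⟨q.2.1.2, q.2.2⟩).conj _ p⟩
  have hψ : Function.Injective ψ := by
    rintro ⟨c, g⟩ ⟨c', g'⟩ e'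
    have e2 : c.out * ((g.1 : L) : G) * c.out⁻¹ = c'.out * ((g'.1 : L) : G) * c'.out⁻¹ :=
      congrArg (fun x : FG => ((x.1 : (⊤ : Subgroup G)) : G)) e'
    set k := c.out⁻¹ * c'.out with hk
    set g0 : G := ((g.1 : L) : G) with hg0
    set g1 : G := ((g'.1 : L) : G) with hg1
    have hY0 : IsY A y g0 := ⟨g.1.2, g.2⟩
    have hY1 : IsY A y g1 := ⟨g'.1.2, g'.2⟩
    have hconj : g0 = k * g1 * k⁻¹ := by
      calc g0 = c.out⁻¹ * (c.out * g0 * c.out⁻¹) * c.out := by group
        _ = _ := by rw [e2, hk]; group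
    -- `k` stabilises the block
    have hkmem : ∀ p ∈ blk A y, k • p ∈ blk A y := by
      intro p hp
      obtain ⟨u, hu, hup, hug⟩ := hb.inverter h hY1 hp
      obtain ⟨v, hv, hvo, hvg⟩ := hb.inverter h hY0 o_mem_blk
      set u' := k * u * k⁻¹ with hu'
      have hu'o : orderOf u' = 2 := by rw [hu', orderOf_conj, hu]
      have hu'g : u' * g0 * u'⁻¹ = g0⁻¹ := by
        calc u' * g0 * u'⁻¹ = k * (u * g1 * u⁻¹) * k⁻¹ := by rw [hu', hconj]; group
          _ = g0⁻¹ := by rw [hug, hconj]; group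
      have hm : (v * u') * g0 = g0 * (v * u') := by
        have e1 : u' * g0 = g0⁻¹ * u' := mul_inv_eq_iff_eq_mul.1 hu'g
        have e3 : v * g0⁻¹ = g0 * v := by
          have := mul_inv_eq_iff_eq_mul.1 hvg
          calc v * g0⁻¹ = g0 * (g0⁻¹ * v) * g0⁻¹ := by group
            _ = g0 * v := by rw [← this]; group
        rw [mul_assoc, e1, ← mul_assoc, e3, mul_assoc]
      have hu'L : u' ∈ L := by
        have h1 := mul_mem (hb.invol_mem h hv o_mem_blk hvo) (hb.cent_le h hsq hY0 _ hm)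
        rwa [← mul_assoc, inv_sq_one hv, one_mul] at h1
      obtain ⟨c0, hc0, hc0f⟩ := hb.invol_fixed h hu'o hu'L
      have hkp : u' • (k • p) = k • p := by rw [hu', mul_smul, inv_smul_smul, mul_smul, hup]
      rw [(StronglyEmbedded.existsUnique_fixed h.stronglyEmbedded hu'o).unique hkp hc0f]
      exact hc0
    have hkL : k ∈ L := mem_orbStab_of hkmem
    have hcc : c = c' := by
      rw [← c.out_eq, ← c'.out_eq]
      exact QuotientGroup.eq.2 hkL
    subst hcc
    have hgg : g0 = g1 := mul_left_cancel (mul_right_cancel e2)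
    exact Prod.ext rfl (Subtype.ext (Subtype.ext hgg))
  have hle := Nat.card_le_card_of_injective ψ hψ
  rw [Nat.card_prod] at hle
  have hidx : Nat.card (G ⧸ L) * Nat.card L = Nat.card G :=
    (Subgroup.card_eq_card_quotient_mul_card_subgroup L).symm
  rw [hBc, hLc, show e A + 2 - 1 = e A + 1 by omega, show e A + 2 - 2 = e A by omega] at hY
  rw [hLc, hGc] at hidx
  rw [huniv, Subgroup.card_top, hGc, Nat.add_sub_cancel, show Nat.card A + 1 - 2 = Nat.card A - 1 by omega]
    at hF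
  obtain ⟨d, hd⟩ : ∃ d, Nat.card A = e A + 2 + d := ⟨Nat.card A - (e A + 2), by omega⟩
  rw [hd, show e A + 2 + d - 1 = e A + 1 + d by omega] at hF
  rw [hd] at hidx
  set Q := Nat.card (G ⧸ L)
  set Y := Nat.card YL
  set F := Nat.card FG
  set E := e A
  have k1 := Nat.mul_le_mul_left (2 * (E + 2)) hle
  have k2 : 2 * (E + 2) * (Q * Y) = (E + 1) * ((E + 2 + d + 1) * ((E + 2 + d) * E)) := by
    rw [← hidx]
    have hY' : 2 * Y = (E + 1) * ((E + 1) * E) := by nlinarith [hY]
    calc 2 * (E + 2) * (Q * Y) = (E + 2) * Q * (2 * Y) := by ring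
      _ = _ := by rw [hY']; ring
  have k3 : 2 * (E + 2) * F + (E + 2) * ((E + 2 + d) * (E + 1 + d)) =
      (E + 2) * ((E + 2 + d + 1) * ((E + 2 + d) * E)) := by
    rw [← hF]; ring
  have k4 : (E + 2) * ((E + 2 + d) * (E + 1 + d)) ≤ (E + 2 + d + 1) * ((E + 2 + d) * E) := by
    nlinarith [k1, k2, k3]
  nlinarith [k4]

end Cfsg.Agent.TICentralizer
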