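/-
Insoluble groups with TI centralisers.
-/
import Cfsg.Agent.TICentralizer.Basic
import Cfsg.Agent.TICentralizer.Count
import Cfsg.Agent.OddLocal.CN
import Cfsg.Agent.S0183
import Cfsg.Agent.S0215
import Cfsg.Agent.S1230
import Cfsg.Agent.S1473

set_option autoImplicit false

namespace Cfsg.Agent.TICentralizer

open Cfsg.Agent.Involutions
open Cfsg.Agent.Involutions.Basic (inv_eq inv_sq_one orderOf_conj orderOf_two_iff)

variable {G : Type*} [Group G] [Finite G]

theorem solvable_of_quotient {N : Subgroup G} [N.Normal] (h1 : Group.IsSolvable N)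
    (h2 : Group.IsSolvable (G ⧸ N)) : Group.IsSolvable G :=
  solvable_of_ker_le_range N.subtype (QuotientGroup.mk' N) (by
    rw [QuotientGroup.ker_mk', Subgroup.range_subtype])

/-- The Sylow 2-subgroup is not normal and has two involutions. -/
theorem TIProp.two_sylow (h : TIProp G) (hns : ¬ Group.IsSolvable G) (S : Sylow 2 G) :
    ¬ (S : Subgroup G).Normal ∧ ∀ z ∈ (S : Subgroup G), orderOf z = 2 →
      ∃ t ∈ (S : Subgroup G), orderOf t = 2 ∧ t ≠ z := by
  have h2 : Fact (Nat.Prime 2) := ⟨Nat.prime_two⟩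
  refine ⟨fun hn => hns ?_, fun z hz hzo => ?_⟩
  · have := hn
    have hnil : Group.IsNilpotent (S : Subgroup G) := S.2.isNilpotent
    refine solvable_of_quotient (N := (S : Subgroup G)) inferInstance ?_
    refine Cfsg.Agent.S0183.result (Nat.not_even_iff_odd.1 fun he => S.not_dvd_index ?_)
      (Cfsg.Agent.S1473.result h.isCNGroup _ inferInstance)
    rw [Subgroup.index_eq_card]
    exact he.two_dvd
  · by_contra hcon
    push Not at hcon
    obtain ⟨N, hN, hodd, hcom⟩ := Cfsg.Agent.S0215.result S z hzo hz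
      fun g hg => hcon _ hg (by rw [orderOf_conj, hzo])
    have := hN
    have hNs : Group.IsSolvable N := Cfsg.Agent.S0183.result hodd (h.subgroup N).isCNGroup
    refine hns (solvable_of_quotient hNs ?_)
    have hz1 : ((z : G) : G ⧸ N) ≠ 1 := fun e' => by
      have h1 := N.orderOf_dvd_natCard ((QuotientGroup.eq_one_iff z).1 e')
      rw [hzo] at h1
      exact Nat.not_even_iff_odd.2 hodd (even_iff_two_dvd.2 h1)
    have hC := Cfsg.Agent.S1473.result h.isCNGroup N hNs (z : G ⧸ N) hz1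
    have htop : Subgroup.centralizer ({((z : G) : G ⧸ N)} : Set (G ⧸ N)) = ⊤ := by
      refine eq_top_iff.2 fun q _ => Subgroup.mem_centralizer_singleton_iff.2 ?_
      obtain ⟨g, rfl⟩ := QuotientGroup.mk_surjective q
      have := (QuotientGroup.eq_one_iff (N := N) _).2 (hcom g)
      rw [QuotientGroup.mk_mul, QuotientGroup.mk_mul, QuotientGroup.mk_mul, QuotientGroup.mk_inv,
        QuotientGroup.mk_inv, mul_inv_eq_one, mul_inv_eq_iff_eq_mul] at this
      exact this.symm
    rw [htop] at hC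
    have := Group.nilpotent_of_mulEquiv (Subgroup.topEquiv (G := G ⧸ N))
    infer_instance

/-- The centraliser of a central involution of a Sylow 2-subgroup satisfies `Hyp`. -/
theorem TIProp.hyp (h : TIProp G) (hns : ¬ Group.IsSolvable G) (S : Sylow 2 G) :
    ∃ A : Subgroup G, Hyp A ∧ (S : Subgroup G) ≤ A ∧
      ∀ t : G, orderOf t = 2 → ∃ g : G, Subgroup.centralizer ({t} : Set G) ≤ A.map (MulAut.conj g).toMonoidHom := by
  classical
  have h2 : Fact (Nat.Prime 2) := ⟨Nat.prime_two⟩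
  have heven : 2 ∣ Nat.card G := by
    by_contra hd
    exact hns (Cfsg.Agent.S0183.result (Nat.not_even_iff_odd.1 fun he => hd he.two_dvd) h.isCNGroup)
  obtain ⟨hnn, hinv⟩ := h.two_sylow hns S
  have : Nontrivial (S : Subgroup G) :=
    (Subgroup.nontrivial_iff_ne_bot _).2 (S.ne_bot_of_dvd_card heven)
  have := S.2.center_nontrivial
  obtain ⟨⟨⟨z, hzS⟩, hzc⟩, hzo'⟩ : ∃ z : Subgroup.center (S : Subgroup G), orderOf z = 2 := by
    refine exists_prime_orderOf_dvd_card' 2 ?_
    obtain ⟨k, hk⟩ := IsPGroup.iff_card.1 (S.2.to_subgroup (Subgroup.center (S : Subgroup G)))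
    rw [hk]
    refine dvd_pow_self 2 fun hk0 => ?_
    rw [hk0, pow_zero] at hk
    exact (Finite.one_lt_card (α := Subgroup.center (S : Subgroup G))).ne' hk
  have hzo : orderOf z = 2 := by simpa using hzo'
  have hz1 : z ≠ 1 := Basic.ne_one hzo
  set A := Subgroup.centralizer ({z} : Set G) with hA
  have hSA : (S : Subgroup G) ≤ A := fun s hs => mem_cent.2
    (congrArg Subtype.val (Subgroup.mem_center_iff.1 hzc ⟨s, hs⟩))
  have hnil : Group.IsNilpotent A := h.isCNGroup z hz1
  -- the 2-elements of `A` lie in `S`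
  have h2A : ∀ x ∈ A, IsPGroup 2 (Subgroup.zpowers x) → x ∈ (S : Subgroup G) := by
    intro x hx hxp
    have hPn : ((S.subtype hSA : Sylow 2 A) : Subgroup A).Normal :=
      (((Group.isNilpotent_of_finite_tfae (G := A)).out 0 3).1 hnil :
        ∀ (p : ℕ) (_ : Fact p.Prime) (P : Sylow p A), (P : Subgroup A).Normal) 2 inferInstance _
    have hp : IsPGroup 2 (Subgroup.zpowers (⟨x, hx⟩ : A)) := by
      intro w
      obtain ⟨j, hj⟩ := Subgroup.mem_zpowers_iff.1 w.2
      obtain ⟨k, hk⟩ := hxp ⟨x ^ j, Subgroup.zpow_mem _ (Subgroup.mem_zpowers x) j⟩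
      refine ⟨k, Subtype.ext (Subtype.ext ?_)⟩
      have hk' : (x ^ j) ^ 2 ^ k = 1 := congrArg Subtype.val hk
      simp only [SubgroupClass.coe_pow, OneMemClass.coe_one]
      rw [← hj]
      simpa using hk'
    obtain ⟨Q, hQ⟩ := hp.exists_le_sylow
    have := Sylow.unique_of_normal (S.subtype hSA) hPn
    rw [Subsingleton.elim Q (S.subtype hSA)] at hQ
    exact hQ (Subgroup.mem_zpowers _)
  have hM : nA A = Subgroup.normalizer (A : Set G) := rfl
  -- the normaliser of `A` normalises `S`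
  have hMS : nA A ≤ Subgroup.normalizer ((S : Subgroup G) : Set G) := by
    intro m hm
    have key : ∀ m ∈ nA A, ∀ s ∈ (S : Subgroup G), m * s * m⁻¹ ∈ (S : Subgroup G) := fun m hm s hs =>
      h2A _ (conj_mem hm (hSA hs)) (by
        rintro ⟨w, hw⟩
        obtain ⟨j, rfl⟩ := Subgroup.mem_zpowers_iff.1 hw
        obtain ⟨k, hk⟩ := S.2 ⟨s ^ j, Subgroup.zpow_mem _ hs j⟩
        refine ⟨k, Subtype.ext ?_⟩
        have hk' : (s ^ j) ^ 2 ^ k = 1 := congrArg Subtype.val hk
        show ((m * s * m⁻¹) ^ j) ^ 2 ^ k = 1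
        rw [conj_zpow, conj_pow, hk', mul_one, mul_inv_cancel])
    refine Subgroup.mem_normalizer_iff.2 fun s => ⟨key m hm s, fun hs => ?_⟩
    have := key m⁻¹ (inv_mem hm) _ hs
    simpa [mul_assoc] using this
  have hMinv : ∀ t : G, t ∈ nA A → IsPGroup 2 (Subgroup.zpowers t) → t ∈ (S : Subgroup G) := by
    intro t ht hp
    have := S.3 (IsPGroup.to_sup_of_normal_right' hp S.2 (Subgroup.zpowers_le.2 (hMS ht))) le_sup_right
    exact this ▸ Subgroup.mem_sup_left (Subgroup.mem_zpowers t)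
  have hpinv : ∀ t : G, orderOf t = 2 → IsPGroup 2 (Subgroup.zpowers t) := fun t ht =>
    IsPGroup.of_card (n := 1) (by rw [Nat.card_zpowers, ht, pow_one])
  have hinvol : ∀ {t : G}, t ∈ nA A → orderOf t = 2 → t ∈ A := fun {t} ht hto =>
    hSA (hMinv t ht (hpinv t hto))
  have hnotn : ¬ A.Normal := fun hn => hnn (Subgroup.normalizer_eq_top_iff.1
    (top_le_iff.1 ((Subgroup.normalizer_eq_top_iff.2 hn).symm.trans_le hMS)))
  have hTI : ∀ {a g : G}, a ∈ A → a ≠ 1 → g * a * g⁻¹ ∈ A → g ∈ nA A := fun ha ha1 hg =>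
    h.mem_normalizer ha ha1 hg
  have hse : Cfsg.IsStronglyEmbedded (nA A) := by
    refine StronglyEmbedded.of_conj (fun htop => hnotn (Subgroup.normalizer_eq_top_iff.1 htop)) ?_ ?_
    · rw [even_iff_two_dvd, ← hzo]
      exact (nA A).orderOf_dvd_natCard (le_nA (hSA hzS))
    · intro t ht hto g hg
      exact hTI (hinvol ht hto) (Basic.ne_one hto) (hinvol hg (by rw [orderOf_conj, hto]))
  have hcomm : ∀ {t a : G}, t ∈ A → orderOf t = 2 → a ∈ A → a * t = t * a := by
    intro t a ht hto ha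
    obtain ⟨g, hg⟩ := isConj_iff.1 (StronglyEmbedded.isConj_involutions hse hzo hto)
    have hgM : g ∈ nA A := hTI (hSA hzS) hz1 (hg.symm ▸ ht)
    have h1 := mem_cent.1 (conj_mem (inv_mem hgM) ha)
    rw [inv_inv] at h1
    rw [← hg]
    calc a * (g * z * g⁻¹) = g * (g⁻¹ * a * g * z) * g⁻¹ := by group
      _ = g * (z * (g⁻¹ * a * g)) * g⁻¹ := by rw [h1]
      _ = _ := by group
  have hcent : ∀ {a x : G}, a ∈ A → a ≠ 1 → x * a = a * x → x ∈ A := by
    intro a x ha ha1 hx
    have hxM : x ∈ nA A := h.centralizer_le ha ha1 (mem_cent.2 hx)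
    have hza : z ∈ Subgroup.centralizer ({a} : Set G) := mem_cent.2 (mem_cent.1 ha).symm
    have hnilC : Group.IsNilpotent (Subgroup.centralizer ({a} : Set G)) := h.isCNGroup a ha1
    obtain ⟨k, r, hr, hkr⟩ := Nat.exists_eq_two_pow_mul_odd (orderOf_pos x).ne'
    have hco : Nat.Coprime (2 ^ k) r := (Nat.coprime_two_left.2 hr).pow_left k
    have h1 : x ^ r ∈ A := hSA (hMinv _ (pow_mem hxM r) (by
      refine IsPGroup.of_card (n := k) ?_
      rw [Nat.card_zpowers, orderOf_pow' x (by rintro rfl; simp at hr), hkr,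
        Nat.gcd_eq_right (Dvd.intro_left _ rfl), Nat.mul_div_cancel _ hr.pos]))
    have h2 : x ^ (2 ^ k) ∈ A := by
      have hodd : orderOf (x ^ (2 ^ k)) = r := by
        rw [orderOf_pow' x (by positivity), hkr, Nat.gcd_eq_right (Dvd.intro _ rfl),
          Nat.mul_div_cancel_left _ (by positivity)]
      exact mem_cent.2 (OddLocal.CN.commute_of_mem hnilC (pow_mem (mem_cent.2 hx) _) hza
        (by rw [hodd, hzo]; exact Nat.coprime_two_right.2 hr)).eq
    have h3 : x ^ ((2 ^ k : ℕ) * Nat.gcdA (2 ^ k) r + (r : ℕ) * Nat.gcdB (2 ^ k) r : ℤ) = x := by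
      rw [← Nat.gcd_eq_gcd_ab, hco.gcd_eq_one, Nat.cast_one, zpow_one]
    rw [← h3, zpow_add, zpow_mul, zpow_mul, zpow_natCast, zpow_natCast]
    exact mul_mem (zpow_mem h2 _) (zpow_mem h1 _)
  have hconj : ∀ {a x m : G}, a ∈ A → a ≠ 1 → x * a = a * x → m ∈ nA A →
      m * x * m⁻¹ * a = a * (m * x * m⁻¹) := by
    intro a x m ha ha1 hx hm
    have hza : z ∈ Subgroup.centralizer ({a} : Set G) := mem_cent.2 (mem_cent.1 ha).symm
    have hmz : m * z * m⁻¹ ∈ Subgroup.centralizer ({a} : Set G) :=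
      mem_cent.2 (hcomm (conj_mem hm (hSA hzS)) (by rw [orderOf_conj, hzo]) ha).symm
    exact mem_cent.1 ((Subgroup.mem_normalizer_iff.1 (h.mem_normalizer hza hz1 hmz) x).1 (mem_cent.2 hx))
  refine ⟨A, ⟨fun ha ha1 hg => hTI ha ha1 hg, fun ha ha1 hx => hcent ha ha1 hx,
    fun ht hto => hinvol ht hto, fun ht hto ha => hcomm ht hto ha,
    fun ha ha1 hx hm => hconj ha ha1 hx hm, ?_, hnotn⟩, hSA, ?_⟩
  · obtain ⟨t, ht, hto, htz⟩ := hinv z hzS hzo
    exact ⟨t, z, hSA ht, hSA hzS, hto, hzo, htz⟩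
  · intro t hto
    obtain ⟨g, hg⟩ := isConj_iff.1 (StronglyEmbedded.isConj_involutions hse hzo hto)
    refine ⟨g, fun c hc => ⟨g⁻¹ * c * g, mem_cent.2 ?_, by simp; group⟩⟩
    have h1 := mem_cent.1 hc
    rw [← hg] at h1
    calc g⁻¹ * c * g * z = g⁻¹ * (c * (g * z * g⁻¹)) * g := by group
      _ = g⁻¹ * (g * z * g⁻¹ * c) * g := by rw [h1]
      _ = _ := by group

/-- Under `Hyp` the subgroup `A` is elementary abelian. -/
theorem Hyp.elementary {A : Subgroup G} (h : Hyp A) : ∀ a ∈ A, a * a = 1 := by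
  rcases h.feit with hel | ⟨h2, hnab, hidx⟩
  · exact hel
  have hsq := h.sq_mem_omega h2 hnab hidx
  obtain ⟨y, t, γ, hb⟩ := h.exists_base
  exact fun a ha => h.omega_sq ((hb.toBlk h hsq).le_omega h hsq ha)

/-- The insoluble case. -/
theorem TIProp.nonsolvable_case (h : TIProp G) (hns : ¬ Group.IsSolvable G) :
    ∃ n : ℕ, 2 ≤ n ∧ Nonempty (G ≃* Matrix.ProjectiveSpecialLinearGroup (Fin 2) (GaloisField 2 n)) := by
  classical
  have h2 : Fact (Nat.Prime 2) := ⟨Nat.prime_two⟩
  let S : Sylow 2 G := default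
  obtain ⟨A, hH, hSA, hconj⟩ := h.hyp hns S
  obtain ⟨hnn, -⟩ := h.two_sylow hns S
  have hel := hH.elementary
  have hAc : ∀ a ∈ A, ∀ b ∈ A, a * b = b * a := fun a ha b hb =>
    hH.omega_comm (mem_omega_of hb (hel b hb)) ha
  have hC : ∀ t : G, orderOf t = 2 → IsMulCommutative (Subgroup.centralizer ({t} : Set G)) ∧
      ∀ c ∈ Subgroup.centralizer ({t} : Set G), c ^ 2 = 1 := by
    intro t ht
    obtain ⟨g, hg⟩ := hconj t ht
    refine ⟨⟨⟨fun a b => Subtype.ext ?_⟩⟩, fun c hc => ?_⟩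
    · obtain ⟨a', ha', ea⟩ := hg a.2
      obtain ⟨b', hb', eb⟩ := hg b.2
      show (a : G) * b = b * a
      rw [← ea, ← eb, ← map_mul, ← map_mul, hAc a' ha' b' hb']
    · obtain ⟨c', hc', ec⟩ := hg hc
      rw [← ec, ← map_pow, pow_two, hel c' hc', map_one]
  obtain ⟨s, t, hs, ht, hso, hto, hne⟩ := hH.two_involutions
  have hAS : A ≤ (S : Subgroup G) := by
    have hp : IsPGroup 2 A := fun a => ⟨1, Subtype.ext (by rw [pow_one, pow_two]; exact hel a a.2)⟩
    exact le_of_eq (S.3 hp hSA)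
  have hnc : ¬ IsCyclic (S : Subgroup G) := by
    intro hc
    have := Fintype.ofFinite (S : Subgroup G)
    have hle := IsCyclic.card_pow_eq_one_le (α := (S : Subgroup G)) (n := 2) (by omega)
    let u₁ : (S : Subgroup G) := ⟨s, hAS hs⟩
    let u₂ : (S : Subgroup G) := ⟨t, hAS ht⟩
    have hsub : ({1, u₁, u₂} : Finset (S : Subgroup G)) ⊆ Finset.univ.filter (fun a => a ^ 2 = 1) := by
      intro a ha
      simp only [Finset.mem_insert, Finset.mem_singleton] at ha
      simp only [Finset.mem_filter, Finset.mem_univ, true_and]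
      rcases ha with rfl | rfl | rfl
      · exact one_pow _
      · exact Subtype.ext (by rw [pow_two]; exact inv_sq_one hso)
      · exact Subtype.ext (by rw [pow_two]; exact inv_sq_one hto)
    have h3 := (Finset.card_le_card hsub).trans hle
    rw [Finset.card_eq_three.2 ⟨1, u₁, u₂,
      fun e' => Basic.ne_one hso (congrArg Subtype.val e').symm,
      fun e' => Basic.ne_one hto (congrArg Subtype.val e').symm,
      fun e' => hne (congrArg Subtype.val e'), rfl⟩] at h3
    omega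
  obtain ⟨F, iF, iT, hF, ⟨φ⟩⟩ := Cfsg.Agent.S1230.result S hnc hnn hC
  obtain ⟨k, hk⟩ := IsPGroup.iff_card.1 S.2
  have hk2 : 2 ≤ k := by
    rcases k with _ | _ | k
    · have : Subsingleton (S : Subgroup G) := (Nat.card_eq_one_iff_unique.1 (by simpa using hk)).1
      exact absurd isCyclic_of_subsingleton hnc
    · exact absurd (isCyclic_of_prime_card (p := 2) (by simpa using hk)) hnc
    · omega
  have := Fintype.ofFinite (GaloisField 2 k)
  have hcard : Fintype.card F = Fintype.card (GaloisField 2 k) := by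
    rw [hF, hk, ← Nat.card_eq_fintype_card, GaloisField.card 2 k (by omega)]
  exact ⟨k, hk2, ⟨φ.trans (Cfsg.Agent.Classical.SmallIso.pslCongr
    (FiniteField.ringEquivOfCardEq hcard))⟩⟩

end Cfsg.Agent.TICentralizer
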